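import Cfsg.Agent.Lib.CoZeroInvol.Defs
import Cfsg.Agent.Lib.CoZeroInvol.Data

/-! Kernel checks of the involution certificates. -/

set_option autoImplicit false
set_option maxRecDepth 100000

namespace CfsgLib.CoZeroInvol

open Cfsg CfsgLib CfsgLib.Leech CfsgLib.Leech.Stab CfsgLib.SchurLeech CfsgLib.Leech.Aut
open CfsgLib.Golay (comb toWord)
open CfsgLib.M24Elt (pm)

theorem data_checks :
    (cases8.all (caseB M24Elt.ClassData.rep2_8) && cases0.all (caseB M24Elt.ClassData.rep2_0)) = true := by
  decide +kernel

theorem cover_checks : (coverB M24Elt.ClassData.rep2_8 shifts8 (cases8.map Prod.fst) &&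
    coverB M24Elt.ClassData.rep2_0 shifts0 (cases0.map Prod.fst)) = true := by decide +kernel

end CfsgLib.CoZeroInvol
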