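import Cfsg.Agent.Lib.CoZeroInvol.Checks

/-!
Every involution of Co0 is conjugate to a sign change.
-/

set_option autoImplicit false
set_option maxRecDepth 100000

namespace CfsgLib.CoZeroInvol

open Cfsg CfsgLib CfsgLib.Leech CfsgLib.Leech.Stab CfsgLib.SchurLeech CfsgLib.Leech.Aut
open CfsgLib.Golay (comb toWord)
open CfsgLib.M24Elt (pm)

theorem conj_rep {r : ℕ} {es : List ℕ} {qs : List Case} (hr : Comp.PermCode.Ok 24 r) (hm : pm r ∈ M24)
    (hq : qs.all (caseB r) = true) (hc : coverB r es (qs.map Prod.fst) = true)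
    {c : GolayPt → ZMod 2} (hcode : c ∈ golayCode)
    (h2 : monoEl (pm r) hm c hcode * monoEl (pm r) hm c hcode = 1) :
    ∃ x, IsConj (monoEl (pm r) hm c hcode) (signEl x) := by
  rw [monoEl_mul, ← monoEl_one] at h2
  have hfix := (monoEl_inj h2).2
  obtain ⟨k, hk, rfl⟩ := Golay.mem_golay_iff.1 hcode
  obtain ⟨j, hj, e, -, he⟩ := hit_spec (Golay.allR_spec hc k (Nat.zero_le _) (by simpa using hk))
    (pull_eq_self hr (Golay.comb_lt hk) hfix)
  obtain ⟨q, hqm, rfl⟩ := List.mem_map.1 hj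
  have hcq := conj_of_caseB hr hm (List.all_eq_true.1 hq q hqm)
  refine ⟨q.2.2.2, IsConj.trans (isConj_iff.2 ⟨signEl e, ?_⟩) hcq⟩
  rw [inv_eq_of_mul_eq_one_right (signEl_self e)]
  exact signW_conj (shift_word hr he)

/-- An element whose square is trivial lies, up to conjugacy, in the monomial group. -/
theorem exists_conj_mem_monoSub {g : Co0} (h2 : g * g = 1) : ∃ x : Co0, x * g * x⁻¹ ∈ monoSub := by
  have : Fact (Nat.Prime 2) := ⟨Nat.prime_two⟩
  let Q : Sylow 2 monoSub := default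
  have hp : IsPGroup 2 ((Q : Subgroup monoSub).map monoSub.subtype) := Q.2.map _
  obtain ⟨P, hP⟩ := hp.exists_le_sylow
  have hP' : (P : Subgroup Co0) = (Q : Subgroup monoSub).map monoSub.subtype := by
    refine (Subgroup.eq_of_le_of_card_ge hP ?_).symm
    rw [Nat.card_congr ((Q : Subgroup monoSub).equivMapOfInjective _ monoSub.subtype_injective).symm.toEquiv,
      P.card_eq_multiplicity, Q.card_eq_multiplicity, ← Subgroup.card_mul_index monoSub, monoSub_index,
      Nat.factorization_mul Nat.card_pos.ne' (by norm_num), Finsupp.add_apply,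
      Nat.factorization_eq_zero_of_not_dvd (by norm_num : ¬ 2 ∣ 8292375), add_zero]
  have hg : IsPGroup 2 (Subgroup.zpowers g) := by
    intro a
    obtain ⟨n, hn⟩ := a.2
    refine ⟨1, Subtype.ext ?_⟩
    rw [pow_one, SubgroupClass.coe_pow, ← hn, ← zpow_natCast, ← zpow_mul, mul_comm, zpow_mul,
      zpow_natCast, pow_two, h2, one_zpow]
    rfl
  obtain ⟨R, hR⟩ := hg.exists_le_sylow
  obtain ⟨x, hx⟩ := MulAction.exists_smul_eq Co0 R P
  refine ⟨x, ?_⟩
  have : x * g * x⁻¹ ∈ (P : Subgroup Co0) := by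
    rw [← hx, Sylow.coe_subgroup_smul]
    exact ⟨g, hR (Subgroup.mem_zpowers g), rfl⟩
  rw [hP'] at this
  obtain ⟨y, -, hy⟩ := this
  exact hy ▸ y.2

/-- Every involution of Co0 is conjugate to a sign change. -/
theorem exists_conj_signEl {g : Co0} (h2 : g * g = 1) : ∃ x < 2 ^ 12, IsConj g (signEl x) := by
  suffices H : ∃ x, IsConj g (signEl x) by
    obtain ⟨x, hx⟩ := H
    obtain ⟨y, hy, e⟩ := exists_signEl (Golay.toWord_comb_mem x)
    exact ⟨y, hy, by rwa [← e]⟩
  obtain ⟨x, hx⟩ := exists_conj_mem_monoSub h2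
  have hc : IsConj g (x * g * x⁻¹) := isConj_iff.2 ⟨x, rfl⟩
  have h2' : (x * g * x⁻¹) * (x * g * x⁻¹) = 1 := by
    rw [show x * g * x⁻¹ * (x * g * x⁻¹) = x * (g * g) * x⁻¹ by group, h2, mul_one, mul_inv_cancel]
  obtain ⟨τ, hτ, c, hcode, e⟩ := exists_mono_of_stdStab hx
  suffices H : ∃ y, IsConj (monoEl τ hτ c hcode) (signEl y) by
    obtain ⟨y, hy⟩ := H
    exact ⟨y, hc.trans (e ▸ hy)⟩
  rw [e] at h2'
  by_cases h1 : τ = 1
  · subst h1
    obtain ⟨y, -, hy⟩ := exists_signEl hcode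
    exact ⟨y, hy ▸ IsConj.refl _⟩
  have hsq : τ * τ = 1 := by
    have := h2'
    rw [monoEl_mul, ← monoEl_one] at this
    exact (monoEl_inj this).1
  have hord : orderOf τ = 2 := by
    have : Fact (Nat.Prime 2) := ⟨Nat.prime_two⟩
    exact orderOf_eq_prime (by rw [pow_two]; exact hsq) h1
  have hd := data_checks
  have hcov := cover_checks
  rw [Bool.and_eq_true] at hd hcov
  have red : ∀ (r : ℕ) (es : List ℕ) (qs : List Case), M24Elt.good r = true → qs.all (caseB r) = true →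
      coverB r es (qs.map Prod.fst) = true → (∃ u ∈ M24, u * pm r * u⁻¹ = τ) →
      ∃ y, IsConj (monoEl τ hτ c hcode) (signEl y) := by
    rintro r es qs hgood hq hcv ⟨u, hu, hue⟩
    have hm := M24Elt.pm_mem hgood
    set M := monoEl u hu 0 (zero_mem _)
    have he : M * monoEl τ hτ c hcode * M⁻¹ =
        monoEl (pm r) hm (c ∘ u) (mem_supports_comp hu hcode) := by
      rw [show M⁻¹ = monoEl u⁻¹ (inv_mem hu) 0 (zero_mem _) from
        (monoEl_inv hu (zero_mem _)).trans (monoEl_congr rfl rfl), monoEl_mul, monoEl_mul]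
      refine monoEl_congr ?_ ?_
      · rw [← hue]; group
      · funext p; simp
    have hc1 : IsConj (monoEl τ hτ c hcode) (monoEl (pm r) hm (c ∘ u) (mem_supports_comp hu hcode)) :=
      isConj_iff.2 ⟨M, he⟩
    obtain ⟨y, hy⟩ := conj_rep (M24Elt.good_ok hgood) hm hq hcv (mem_supports_comp hu hcode)
      (by rw [← he, show M * monoEl τ hτ c hcode * M⁻¹ * (M * monoEl τ hτ c hcode * M⁻¹) =
        M * (monoEl τ hτ c hcode * monoEl τ hτ c hcode) * M⁻¹ by group, h2', mul_one, mul_inv_cancel])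
    exact ⟨y, hc1.trans hy⟩
  rcases M24Elt.involution_class hτ hord with ⟨-, h⟩ | ⟨-, h⟩
  · exact red _ _ _ M24Elt.rep_goods.1 hd.1 hcov.1 h
  · exact red _ _ _ M24Elt.rep_goods.2.1 hd.2 hcov.2 h

end CfsgLib.CoZeroInvol
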