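import Cfsg.Agent.Lib.Leech.Orbits.Engine
import Cfsg.Agent.Lib.Schur.CoThree.Eval
import Cfsg.Agent.Lib.M24Elt.Classes
import Cfsg.Agent.Lib.Leech.Simple.Mono

/-!
Sign changes and the checks of the certificates.
-/

set_option autoImplicit false
set_option maxRecDepth 100000

namespace CfsgLib.CoZeroInvol

open Cfsg CfsgLib CfsgLib.Leech CfsgLib.Leech.Stab CfsgLib.SchurLeech CfsgLib.Leech.Aut
open CfsgLib.Golay (comb toWord)
open CfsgLib.M24Elt (pm)

/-- The sign change of a code word given by its index. -/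
def signEl (x : ℕ) : Co0 := monoEl 1 (one_mem _) (toWord (comb x)) (Golay.toWord_comb_mem x)

theorem signW_mul {c d e : GolayPt → ZMod 2} {hc : c ∈ golayCode} {hd : d ∈ golayCode}
    {he : e ∈ golayCode} (h : c + d = e) :
    monoEl 1 (one_mem _) c hc * monoEl 1 (one_mem _) d hd = monoEl 1 (one_mem _) e he := by
  rw [monoEl_mul]; exact monoEl_congr (mul_one 1) (by rw [← h]; rfl)

theorem signW_conj {τ : Equiv.Perm GolayPt} {hτ : τ ∈ M24} {c d e : GolayPt → ZMod 2}
    {hc : c ∈ golayCode} {hd : d ∈ golayCode} {he : e ∈ golayCode} (h : c + d + c ∘ τ = e) :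
    monoEl 1 (one_mem _) c hc * monoEl τ hτ d hd * monoEl 1 (one_mem _) c hc = monoEl τ hτ e he := by
  rw [monoEl_mul, monoEl_mul]
  refine monoEl_congr (by rw [mul_one, one_mul]) ?_
  rw [← h]
  funext p
  simp

theorem toWord_comb_add (x y : ℕ) :
    toWord (comb x) + toWord (comb y) = toWord (comb (x ^^^ y)) :=
  ((congrArg toWord (Golay.comb_xor x y)).trans (Golay.toWord_xor _ _)).symm

theorem signEl_mul (x y : ℕ) : signEl x * signEl y = signEl (x ^^^ y) :=
  signW_mul (toWord_comb_add x y)

theorem signEl_zero : signEl 0 = 1 := by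
  rw [signEl, ← monoEl_one]
  exact monoEl_congr rfl (by rw [Golay.comb_zero, Golay.toWord_zero])

theorem signEl_self (x : ℕ) : signEl x * signEl x = 1 := by
  rw [signEl_mul, Nat.xor_self, signEl_zero]

theorem monoEl_inj {a b : Equiv.Perm GolayPt} {ha : a ∈ M24} {hb : b ∈ M24} {c d : GolayPt → ZMod 2}
    {hc : c ∈ golayCode} {hd : d ∈ golayCode} (h : monoEl a ha c hc = monoEl b hb d hd) :
    a = b ∧ c = d := by
  have := monoMap_injective (a₁ := (⟨a, ha⟩, ⟨c, hc⟩)) (a₂ := (⟨b, hb⟩, ⟨d, hd⟩)) h
  simp only [Prod.mk.injEq, Subtype.mk.injEq] at this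
  exact this

theorem signEl_eq_signEl {x y : ℕ} (hx : x < 2 ^ 12) (hy : y < 2 ^ 12) (h : signEl x = signEl y) :
    x = y :=
  Golay.comb_injOn hx hy (Golay.toWord_inj (Golay.comb_lt hx) (Golay.comb_lt hy) (monoEl_inj h).2)

theorem exists_signEl {c : GolayPt → ZMod 2} (hc : c ∈ golayCode) :
    ∃ x < 2 ^ 12, monoEl 1 (one_mem _) c hc = signEl x := by
  obtain ⟨x, hx, rfl⟩ := Golay.mem_golay_iff.1 hc
  exact ⟨x, hx, rfl⟩

/-! ### Elements of the certificates -/

open scoped Classical in
/-- The element of a line. -/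
noncomputable def elOp : Op → Co0
  | .xi => xiEl
  | .mono T cx => if h : Trans.okT T = true then
      monoEl (Trans.tblPerm T) (Trans.tblPerm_mem h) _ (Golay.toWord_comb_mem cx) else 1
  | .prod _ _ => 1

/-- The check of a line. -/
def lineB : Op × List ℕ → Bool
  | (.xi, l) => l.map colZ == listOf fun p => lin (listOf (xiFun (e8 p)))
  | (.mono T cx, l) => Trans.okT T &&
      l.map colZ == listOf fun p => lin (listOf (Orbits.monoTbl T cx (e8 p)))
  | (.prod _ _, _) => false

theorem valid_elOp : ∀ {q : Op × List ℕ}, lineB q = true → Valid (elOp q.1) q.2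
  | (.xi, _), h => eq_of_beq h
  | (.mono T cx, _), h => by
    simp only [lineB, Bool.and_eq_true] at h
    show Valid (elOp (.mono T cx)) _
    rw [elOp, dif_pos h.1]
    refine (eq_of_beq h.2).trans (congrArg listOf (funext fun p => ?_))
    rw [coe_monoEl_smul, Orbits.monoFun_tbl h.1]
    rfl
  | (.prod _ _, _), h => Bool.noConfusion h

/-- Two codes of one permutation. -/
def sameB (r T : ℕ) : Bool :=
  (List.range 24).all fun i => Nat.beq (Golay.app r i) (Trans.img T i)

theorem eq_of_sameB {r T : ℕ} (hr : Comp.PermCode.Ok 24 r) (hT : Trans.okT T = true)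
    (h : sameB r T = true) : pm r = Trans.tblPerm T := by
  simp only [sameB, List.all_eq_true, List.mem_range, Nat.beq_eq] at h
  refine Equiv.ext fun p => ?_
  rw [Trans.tblPerm_apply hT, Trans.tblFun, (M24Elt.isPermOf_pm hr).apply_eq, h _ (Golay.bit_lt p)]

/-- The identity, as a coded permutation. -/
def idT : ℕ := (List.range 24).foldr (fun i a => a + i * 2 ^ (5 * i)) 0

theorem idT_checks : Trans.okT idT = true ∧ ∀ p : GolayPt, Trans.tblFun idT p = p := by decide +kernel

theorem tblPerm_idT : Trans.tblPerm idT = 1 :=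
  Equiv.ext fun p => by rw [Trans.tblPerm_apply idT_checks.1, idT_checks.2]; rfl

/-- The type of a case. -/
abbrev Case : Type := ℕ × List (Op × List ℕ) × List ℕ × ℕ

/-- The check of a case. -/
def caseB (r : ℕ) : Case → Bool
  | (j, (.mono T j', c₀) :: (.mono T' w', c₁) :: s, hw, w) =>
    sameB r T && Nat.beq j j' && Nat.beq T' idT && Nat.beq w w' &&
      ((Op.mono T j', c₀) :: (Op.mono T' w', c₁) :: s).all lineB &&
      (fun L => evalB L (hw ++ [0]) && evalB L (1 :: hw) && eqC (evalC L (hw ++ [0])) (evalC L (1 :: hw)))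
        (c₀ :: c₁ :: s.map Prod.snd)
  | _ => false

theorem wv_append (e : ℕ → Co0) (u v : List ℕ) :
    SchurPath.wv e (u ++ v) = SchurPath.wv e u * SchurPath.wv e v := by
  simp [SchurPath.wv, List.map_append, List.prod_append]

theorem conj_of_caseB {r : ℕ} (hr : Comp.PermCode.Ok 24 r) (hm : pm r ∈ M24) : ∀ {q : Case},
    caseB r q = true → IsConj (monoEl (pm r) hm _ (Golay.toWord_comb_mem q.1)) (signEl q.2.2.2)
  | (j, (.mono T j', c₀) :: (.mono T' w', c₁) :: s, hw, w), h => by
    simp only [caseB, Bool.and_eq_true, Nat.beq_eq] at h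
    obtain ⟨⟨⟨⟨⟨h1, h2⟩, h3⟩, h4⟩, h5⟩, h6⟩ := h
    subst h2 h4 h3
    set ops : List (Op × List ℕ) := (Op.mono T j, c₀) :: (Op.mono idT w, c₁) :: s with hops
    have hL : (c₀ :: c₁ :: s.map Prod.snd) = ops.map Prod.snd := rfl
    rw [hL] at h6
    set L := ops.map Prod.snd with hLdef
    let e : ℕ → Co0 := fun a => elOp (ops.getD a (Op.xi, idC)).1
    have he : ∀ a < L.length, Valid (e a) (L.getD a idC) := by
      intro a ha
      have ha' : a < ops.length := by simpa [hLdef] using ha
      have := valid_elOp (List.all_eq_true.1 h5 _ (List.getElem_mem ha'))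
      simpa [e, hLdef, List.getD_eq_getElem?_getD, ha'] using this
    have hmem : (Op.mono T j, c₀) ∈ ops := List.mem_cons_self
    have hT : Trans.okT T = true := by
      have := List.all_eq_true.1 h5 _ hmem
      simp only [lineB, Bool.and_eq_true] at this
      exact this.1
    have e0 : e 0 = monoEl (pm r) hm _ (Golay.toWord_comb_mem j) := by
      show elOp (.mono T j) = _
      rw [elOp, dif_pos hT]
      exact monoEl_congr (eq_of_sameB hr hT h1).symm rfl
    have e1 : e 1 = signEl w := by
      show elOp (.mono idT w) = _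
      rw [elOp, dif_pos idT_checks.1]
      exact monoEl_congr tblPerm_idT rfl
    have key := eq_of_eqC (valid_evalC e he _ h6.1.1) (valid_evalC e he _ h6.1.2) h6.2
    rw [wv_append] at key
    have key' : SchurPath.wv e hw * e 0 = e 1 * SchurPath.wv e hw := by
      have h0 : SchurPath.wv e [0] = e 0 := by simp [SchurPath.wv]
      have h1' : SchurPath.wv e (1 :: hw) = e 1 * SchurPath.wv e hw := rfl
      rwa [h0, h1'] at key
    rw [e0, e1] at key'
    exact isConj_iff.2 ⟨SchurPath.wv e hw, by rw [key', mul_inv_cancel_right]⟩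

/-- A fixed code word is, up to a shift, on the list. -/
noncomputable def hit (r : ℕ) (es js : List ℕ) (n : ℕ) : Bool :=
  !(Nat.beq (Golay.pull r n) n) ||
    js.any fun j => es.any fun e => Nat.beq n (comb j ^^^ (comb e ^^^ Golay.pull r (comb e)))

/-- The fixed code words, up to shifts, are listed. -/
noncomputable def coverB (r : ℕ) (es js : List ℕ) : Bool :=
  Golay.allR (fun k => hit r es js (comb k)) 12 0

theorem hit_spec {r : ℕ} {es js : List ℕ} {n : ℕ} (h : hit r es js n = true) (hfix : Golay.pull r n = n) :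
    ∃ j ∈ js, ∃ e ∈ es, n = comb j ^^^ (comb e ^^^ Golay.pull r (comb e)) := by
  rw [hit, hfix, Nat.beq_refl] at h
  simpa only [Bool.not_true, Bool.false_or, List.any_eq_true, Nat.beq_eq] using h

theorem pull_eq_self {r n : ℕ} (hr : Comp.PermCode.Ok 24 r) (hn : n < 2 ^ 24)
    (h : toWord n + toWord n ∘ pm r = 0) : Golay.pull r n = n := by
  refine Golay.toWord_inj (Golay.pull_lt _ _) hn ?_
  rw [Golay.toWord_pull (M24Elt.isPermOf_pm hr)]
  funext p
  exact (CharTwo.add_eq_zero.1 (congrFun h p)).symm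

theorem shift_word {r : ℕ} (hr : Comp.PermCode.Ok 24 r) {n a b : ℕ}
    (h : n = a ^^^ (b ^^^ Golay.pull r b)) : toWord b + toWord n + toWord b ∘ pm r = toWord a := by
  rw [h, Golay.toWord_xor, Golay.toWord_xor, Golay.toWord_pull (M24Elt.isPermOf_pm hr)]
  funext p
  simp only [Pi.add_apply, Function.comp_apply]
  have h1 := CharTwo.add_self_eq_zero (toWord b p)
  have h2 := CharTwo.add_self_eq_zero (toWord b (pm r p))
  linear_combination h1 + h2

end CfsgLib.CoZeroInvol
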