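import Cfsg.Agent.Lib.CoZeroInvol.Classify
import Cfsg.Agent.Lib.ConwayInvol.Main
import Cfsg.Agent.Lib.Leech.Trans.Basic
import Cfsg.Agent.Lib.M24Elt.SylTwo

/-!
The three classes of noncentral involutions of Co0.
-/

set_option autoImplicit false
set_option maxRecDepth 100000

namespace CfsgLib.CoZeroInvol

open Cfsg CfsgLib CfsgLib.Leech
open CfsgLib.Golay (comb toWord)
open CfsgLib.M24Elt (pm)
open scoped Pointwise

/-- The octad involution. -/
def epsEl : Co0 := signEl 186

/-- Minus the octad involution. -/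
def cEl : Co0 := signEl 3909

/-- A dodecad involution. -/
def delEl : Co0 := signEl 13

theorem sign_checks :
    (Nat.beq (186 ^^^ 4095) 3909 && Nat.beq (comb 4095) 16777215 && Nat.beq (Golay.pc24 (comb 186)) 8 &&
      Nat.beq (Golay.pc24 (comb 13)) 12 && Nat.beq (Golay.pc24 (comb 6)) 8 &&
      Nat.beq (Golay.pc24 (comb (186 ^^^ 6))) 8 && Nat.beq (Golay.pc24 (comb 14)) 12 &&
      Nat.beq (Golay.pc24 (comb (13 ^^^ 14))) 8 && Nat.beq (comb (13 ^^^ 4095)) (comb 13 ^^^ 16777215)) =
        true := by decide +kernel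

theorem negEl_eq_signEl : negEl = signEl 4095 := by
  have h := sign_checks
  simp only [Bool.and_eq_true, Nat.beq_eq] at h
  rw [negEl_eq_monoEl]
  exact monoEl_congr rfl (by rw [h.1.1.1.1.1.1.1.2, Golay.toWord_ones])

theorem cEl_eq : cEl = epsEl * negEl := by
  rw [negEl_eq_signEl, epsEl, signEl_mul]
  exact congrArg signEl (by decide)

theorem negEl_mul_self : negEl * negEl = 1 := by rw [negEl_eq_signEl, signEl_self]

theorem epsEl_sq : epsEl * epsEl = 1 := signEl_self _

theorem cEl_sq : cEl * cEl = 1 := signEl_self _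

theorem signEl_ne {x y : ℕ} (hx : x < 2 ^ 12) (hy : y < 2 ^ 12) (h : x ≠ y) : signEl x ≠ signEl y :=
  fun e => h (signEl_eq_signEl hx hy e)

theorem eps_ne : epsEl ≠ 1 ∧ epsEl ≠ negEl ∧ cEl ≠ 1 ∧ cEl ≠ negEl ∧ cEl ≠ epsEl := by
  rw [← signEl_zero, negEl_eq_signEl, epsEl, cEl]
  exact ⟨signEl_ne (by norm_num) (by norm_num) (by norm_num), signEl_ne (by norm_num) (by norm_num) (by norm_num),
    signEl_ne (by norm_num) (by norm_num) (by norm_num), signEl_ne (by norm_num) (by norm_num) (by norm_num),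
    signEl_ne (by norm_num) (by norm_num) (by norm_num)⟩

/-- Conjugation by a coordinate permutation. -/
theorem isConj_of_smul {m n : ℕ} {hm : toWord m ∈ golayCode} {hn : toWord n ∈ golayCode}
    {σ : Equiv.Perm GolayPt} (hσ : σ ∈ M24) (h : σ • Golay.toSet m = Golay.toSet n) :
    IsConj (monoEl 1 (one_mem _) (toWord m) hm) (monoEl 1 (one_mem _) (toWord n) hn) := by
  refine isConj_iff.2 ⟨monoEl σ⁻¹ (inv_mem hσ) 0 (zero_mem _), ?_⟩
  rw [show (monoEl σ⁻¹ (inv_mem hσ) 0 (zero_mem _))⁻¹ = monoEl σ hσ 0 (zero_mem _) from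
    (monoEl_inv _ (zero_mem _)).trans (monoEl_congr (inv_inv σ) rfl), monoEl_mul, monoEl_mul]
  refine monoEl_congr (by simp) ?_
  funext p
  have e : n.testBit (Golay.bit p) = true ↔ m.testBit (Golay.bit (σ⁻¹ p)) = true := by
    rw [← Golay.mem_toSet, ← Golay.mem_toSet, ← h, ← Finset.inv_smul_mem_iff, Equiv.Perm.smul_def]
  simp only [Pi.add_apply, Function.comp_apply, Pi.zero_apply, zero_add, add_zero, Equiv.Perm.mul_apply,
    Equiv.Perm.one_apply, toWord]
  by_cases hb : n.testBit (Golay.bit p) = true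
  · rw [if_pos hb, if_pos (e.1 hb)]
  · rw [if_neg hb, if_neg (fun ha => hb (e.2 ha))]

theorem isConj_root {w tree root : ℕ} (h : Trans.codeTreeB tree root Trans.gensAll w 0 = true) {x : ℕ}
    (hx : x < 2 ^ 12) (hw : Golay.pc24 (comb x) = w) : IsConj (signEl root) (signEl x) := by
  obtain ⟨σ, hσ, -, hs⟩ := Trans.codeTree_sound h (s := Golay.toSet (comb x))
    (Golay.mem_wordsOfWeight_iff.2 ⟨x, hx, by rw [← Golay.pc24_eq]; exact hw, rfl⟩)
    (Finset.disjoint_left.2 fun _ _ h => by simpa using (Golay.mem_toSet.1 h))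
  exact isConj_of_smul (hm := Golay.toWord_comb_mem root) (hn := Golay.toWord_comb_mem x) hσ hs

theorem isConj_octad {x : ℕ} (hx : x < 2 ^ 12) (hw : Golay.pc24 (comb x) = 8) : IsConj epsEl (signEl x) := by
  have h := sign_checks
  simp only [Bool.and_eq_true, Nat.beq_eq] at h
  exact (isConj_root Trans.octad_checks.1 (by norm_num) h.1.1.1.1.1.1.2).symm.trans
    (isConj_root Trans.octad_checks.1 hx hw)

theorem isConj_dodecad {x : ℕ} (hx : x < 2 ^ 12) (hw : Golay.pc24 (comb x) = 12) :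
    IsConj delEl (signEl x) := by
  have h := sign_checks
  simp only [Bool.and_eq_true, Nat.beq_eq] at h
  exact (isConj_root Trans.dodecad_checks.1 (by norm_num) h.1.1.1.1.1.2).symm.trans
    (isConj_root Trans.dodecad_checks.1 hx hw)

theorem isConj_mul_negEl {g h : Co0} (e : IsConj g h) : IsConj (g * negEl) (h * negEl) := by
  obtain ⟨x, hx⟩ := isConj_iff.1 e
  refine isConj_iff.2 ⟨x, ?_⟩
  rw [← hx, mul_assoc, mul_assoc, ← negEl_comm x⁻¹]
  group

theorem weight_compl : Golay.allR (fun x => Nat.beq (Golay.pc24 (comb x)) 0 == Nat.beq x 0 &&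
    (Nat.beq (Golay.pc24 (comb x)) 24 == Nat.beq x 4095) &&
    Nat.beq (Golay.pc24 (comb (x ^^^ 4095))) (24 - Golay.pc24 (comb x))) 12 0 = true := by
  decide +kernel

/-- The classes of the elements of square one. -/
theorem classes {g : Co0} (h2 : g * g = 1) :
    g = 1 ∨ g = negEl ∨ IsConj g epsEl ∨ IsConj g cEl ∨ IsConj g delEl := by
  obtain ⟨x, hx, hc⟩ := exists_conj_signEl h2
  have h := Golay.allR_spec weight_compl x (Nat.zero_le _) (by simpa using hx)
  simp only [Bool.and_eq_true, beq_iff_eq, Nat.beq_eq] at h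
  rcases (Golay.comb_spec hx).2.2 with e | e | e | e | e <;> rw [← Golay.pc24_eq] at e
  · left
    have : x = 0 := Nat.eq_of_beq_eq_true (h.1.1 ▸ (by rw [e]; rfl))
    rw [this, signEl_zero] at hc
    exact isConj_one_left.1 hc
  · exact Or.inr (Or.inr (Or.inl (hc.trans (isConj_octad hx e).symm)))
  · exact Or.inr (Or.inr (Or.inr (Or.inr (hc.trans (isConj_dodecad hx e).symm))))
  · refine Or.inr (Or.inr (Or.inr (Or.inl (hc.trans ?_))))
    have hy : x ^^^ 4095 < 2 ^ 12 := Nat.xor_lt_two_pow hx (by decide)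
    have := isConj_mul_negEl (isConj_octad hy (by rw [h.2, e]))
    rw [← cEl_eq, negEl_eq_signEl, signEl_mul, Nat.xor_assoc, Nat.xor_self, Nat.xor_zero] at this
    exact this.symm
  · refine Or.inr (Or.inl ?_)
    have : x = 4095 := Nat.eq_of_beq_eq_true (h.1.2 ▸ (by rw [e]; rfl))
    rw [this, ← negEl_eq_signEl] at hc
    obtain ⟨u, hu⟩ := isConj_iff.1 hc.symm
    rw [← hu, negEl_comm u, mul_inv_cancel_right]

theorem delEl_mul_negEl : IsConj (delEl * negEl) delEl := by
  have h := Golay.allR_spec weight_compl 13 (Nat.zero_le _) (by norm_num)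
  have h' := sign_checks
  simp only [Bool.and_eq_true, beq_iff_eq, Nat.beq_eq] at h h'
  rw [delEl, negEl_eq_signEl, signEl_mul]
  exact (isConj_dodecad (by decide) (by rw [h.2, h'.1.1.1.1.1.2])).symm

end CfsgLib.CoZeroInvol
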