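import Cfsg.Agent.Lib.Leech.Aut.Co1Out
import Cfsg.Agent.Lib.Schur.CoOne.Cover

/-!
All automorphisms of Co0 are inner.
-/

set_option autoImplicit false

namespace CfsgLib.CoZeroInvol

open Cfsg CfsgLib CfsgLib.Leech
open scoped commutatorElement

theorem exists_conj_eq (a : MulAut Co0) : ∃ c : Co0, ∀ x, a x = c * x * c⁻¹ := by
  set Z := Subgroup.center Co0 with hZ
  have hmap : Z.map a.toMonoidHom = Z :=
    Subgroup.characteristic_iff_map_eq.1 inferInstance a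
  let b : MulAut (Co0 ⧸ Z) := QuotientGroup.congr Z Z a hmap
  have hone : (QuotientGroup.mk b : Cfsg.Out (Co0 ⧸ Z)) = 1 :=
    (Nat.card_eq_one_iff_unique.1 Aut.CoOne.card_out).1.elim _ _
  obtain ⟨cb, hcb⟩ := (QuotientGroup.eq_one_iff b).1 hone
  obtain ⟨c, rfl⟩ := QuotientGroup.mk_surjective cb
  refine ⟨c, fun x => ?_⟩
  have hdiff : ∀ y : Co0, (c * y * c⁻¹)⁻¹ * a y ∈ Z := by
    intro y
    rw [← QuotientGroup.eq]
    have h := DFunLike.congr_fun hcb (y : Co0 ⧸ Z)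
    rw [MulAut.conj_apply] at h
    rw [QuotientGroup.mk_mul, QuotientGroup.mk_mul, QuotientGroup.mk_inv, h]
    rfl
  let φ : Co0 →* Co0 := (MulAut.conj c⁻¹).toMonoidHom.comp a.toMonoidHom
  have hle : commutator Co0 ≤ φ.eqLocus (MonoidHom.id Co0) := by
    rw [commutator_def, Subgroup.commutator_le]
    intro y _ w _
    show φ ⁅y, w⁆ = ⁅y, w⁆
    have hy : ∀ v : Co0, ∃ ζ ∈ Z, φ v = v * ζ := fun v =>
      ⟨v⁻¹ * φ v, by
        have e : v⁻¹ * φ v = c⁻¹ * ((c * v * c⁻¹)⁻¹ * a v) * c := by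
          show v⁻¹ * (c⁻¹ * a v * c⁻¹⁻¹) = _
          group
        rw [e]
        simpa using Subgroup.Normal.conj_mem (inferInstance : Z.Normal) _ (hdiff v) c⁻¹, by group⟩
    obtain ⟨ζ, hζ, eζ⟩ := hy y
    obtain ⟨η, hη, eη⟩ := hy w
    have h1 : ∀ g : Co0, Commute g ζ := fun g => Subgroup.mem_center_iff.1 hζ g
    have h2 : ∀ g : Co0, Commute g η := fun g => Subgroup.mem_center_iff.1 hη g
    rw [map_commutatorElement, eζ, eη, commutatorElement_def, commutatorElement_def, mul_inv_rev,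
      mul_inv_rev]
    calc y * ζ * (w * η) * (ζ⁻¹ * y⁻¹) * (η⁻¹ * w⁻¹)
        = y * (ζ * (w * η) * ζ⁻¹) * y⁻¹ * (η⁻¹ * w⁻¹) := by group
      _ = y * (w * η) * y⁻¹ * (η⁻¹ * w⁻¹) := by rw [← (h1 (w * η)).eq, mul_inv_cancel_right]
      _ = y * w * (η * y⁻¹ * η⁻¹) * w⁻¹ := by group
      _ = y * w * y⁻¹ * w⁻¹ := by rw [← (h2 y⁻¹).eq, mul_inv_cancel_right]
  rw [SchurCoOne.commutator_Co0] at hle
  have h : c⁻¹ * a x * c⁻¹⁻¹ = x := hle (Subgroup.mem_top x)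
  have h' := congrArg (fun v => c * v * c⁻¹) h
  simpa [mul_assoc] using h'

end CfsgLib.CoZeroInvol
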