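import Cfsg.Agent.Lib.CoZeroInvol.Facts
import Cfsg.Agent.Lib.ConwayInvol.Main
import Cfsg.Agent.Lib.Leech.Trans.Basic
import Cfsg.Agent.Lib.M24Elt.SylTwo

/-!
Commutators of normal 2-subgroups of the centraliser of an octad involution.
-/

set_option autoImplicit false
set_option maxRecDepth 100000

namespace CfsgLib.CoZeroInvol

open Cfsg CfsgLib CfsgLib.Leech
open CfsgLib.Golay (comb toWord)
open CfsgLib.M24Elt (pm)
open scoped Pointwise commutatorElement

/-! ### Normal 2-subgroups of the centraliser of the octad involution -/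

theorem rho_eq_one_of_normal {W : Subgroup ConwayInvol.Cent} [W.Normal] (hW : IsPGroup 2 W)
    {g : ConwayInvol.Cent} (hg : g ∈ W) : ConwayInvol.rho g = 1 := by
  haveI : Fact (Nat.Prime 2) := ⟨Nat.prime_two⟩
  obtain ⟨hs, hz⟩ := ConwayInvol.omega_simple
  set R := ConwayInvol.rho.range with hR
  have hsR : IsSimpleGroup R := by rw [hR, ConwayInvol.range_rho]; exact hs
  have hzR : Subgroup.center R = ⊥ := by rw [hR, ConwayInvol.range_rho]; exact hz
  have hn : (W.map ConwayInvol.rho.rangeRestrict).Normal :=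
    Subgroup.Normal.map inferInstance _ ConwayInvol.rho.rangeRestrict_surjective
  rcases hsR.eq_bot_or_eq_top_of_normal _ hn with h | h
  · have h' : ConwayInvol.rho.rangeRestrict g ∈ (⊥ : Subgroup R) := h ▸ Subgroup.mem_map_of_mem _ hg
    exact congrArg Subtype.val (Subgroup.mem_bot.1 h')
  · exfalso
    have hp : IsPGroup 2 R := by
      have := hW.map ConwayInvol.rho.rangeRestrict
      rw [h] at this
      exact this.of_equiv Subgroup.topEquiv
    have : Finite R := inferInstance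
    have hnt : Nontrivial R := hsR.toNontrivial
    have hcn : Nontrivial (Subgroup.center R) := hp.center_nontrivial
    rw [hzR] at hcn
    exact not_nontrivial (⊥ : Subgroup R) hcn

theorem exists_transport : ∃ M : Co0, M * epsEl * M⁻¹ = ConwayInvol.tInv ∧
    M * cEl * M⁻¹ = ConwayInvol.coEl := by
  have h := sign_checks
  simp only [Bool.and_eq_true, Nat.beq_eq] at h
  obtain ⟨x, hx, hxw⟩ := Golay.mem_golay_iff.1 ConwayInvol.octWord_mem
  have hx8 : Golay.pc24 (comb x) = 8 := by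
    rw [Golay.toWord_inj (Golay.comb_lt hx) (by norm_num [ConwayInvol.octMask]) hxw]
    decide +kernel
  obtain ⟨M, hM⟩ := isConj_iff.1 (isConj_octad hx hx8)
  have e1 : M * epsEl * M⁻¹ = ConwayInvol.tInv := hM.trans (monoEl_congr rfl hxw)
  refine ⟨M, e1, ?_⟩
  rw [cEl_eq, show M * (epsEl * negEl) * M⁻¹ = M * epsEl * M⁻¹ * (M * negEl * M⁻¹) by group, e1,
    negEl_comm M, mul_inv_cancel_right, negEl_eq_monoEl, ConwayInvol.tInv, monoEl_mul]
  refine monoEl_congr (mul_one 1) ?_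
  rw [ConwayInvol.coWord_eq, add_comm]
  rfl

theorem comm_Qt {q r : Co0} (hq : q ∈ ConwayInvol.Qt) (hr : r ∈ ConwayInvol.Qt) :
    ⁅q, r⁆ = 1 ∨ ⁅q, r⁆ = ConwayInvol.coEl := by
  obtain ⟨⟨-, -, hcomm⟩, hcard⟩ := ConwayInvol.extraspecial_Qt
  have hmem : (⁅(⟨q, hq⟩ : ConwayInvol.Qt), ⟨r, hr⟩⁆) ∈ Subgroup.center ConwayInvol.Qt :=
    hcomm ▸ Subgroup.commutator_mem_commutator (Subgroup.mem_top _) (Subgroup.mem_top _)
  have hco : (⟨ConwayInvol.coEl, ConwayInvol.coEl_mem⟩ : ConwayInvol.Qt) ∈ Subgroup.center ConwayInvol.Qt := by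
    rw [Subgroup.mem_center_iff]
    rintro ⟨g, hg⟩
    refine Subtype.ext ?_
    show g * ConwayInvol.coEl = ConwayInvol.coEl * g
    have h1 : ConwayInvol.tInv * g = g * ConwayInvol.tInv :=
      ConwayInvol.comm_tInv ⟨g, ConwayInvol.Qt_le hg⟩
    obtain ⟨M, hM1, hM2⟩ := exists_transport
    have e : ConwayInvol.coEl = ConwayInvol.tInv * negEl := by
      rw [← hM1, ← hM2, cEl_eq, mul_assoc (M * epsEl) M⁻¹, negEl_comm M⁻¹]
      group
    rw [e, ← mul_assoc, ← h1, mul_assoc, negEl_comm, ← mul_assoc]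
  have hfin : Finite (Subgroup.center ConwayInvol.Qt) := inferInstance
  obtain ⟨a, b, hab, huniv⟩ := Nat.card_eq_two_iff.1 hcard
  have h1 : (1 : Subgroup.center ConwayInvol.Qt) ∈ ({a, b} : Set _) := huniv ▸ Set.mem_univ _
  have h2 : (⟨_, hco⟩ : Subgroup.center ConwayInvol.Qt) ∈ ({a, b} : Set _) := huniv ▸ Set.mem_univ _
  have h3 : (⟨_, hmem⟩ : Subgroup.center ConwayInvol.Qt) ∈ ({a, b} : Set _) := huniv ▸ Set.mem_univ _
  have hne : (⟨_, hco⟩ : Subgroup.center ConwayInvol.Qt) ≠ 1 := fun e =>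
    ConwayInvol.coEl_ne_one (congrArg (fun z => z.1.1) e)
  simp only [Set.mem_insert_iff, Set.mem_singleton_iff] at h1 h2 h3
  have key : (⟨_, hmem⟩ : Subgroup.center ConwayInvol.Qt) = 1 ∨
      (⟨_, hmem⟩ : Subgroup.center ConwayInvol.Qt) = ⟨_, hco⟩ := by
    rcases h1 with h1 | h1 <;> rcases h2 with h2 | h2 <;> rcases h3 with h3 | h3 <;>
      simp_all
  rcases key with e | e
  · exact Or.inl (congrArg (fun z => z.1.1) e)
  · exact Or.inr (congrArg (fun z => z.1.1) e)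

/-- Commutators in a normal 2-subgroup of the centraliser of the octad involution. -/
theorem comm_of_normal {W : Subgroup Co0} (hle : W ≤ Subgroup.centralizer {epsEl})
    (hn : ∀ g ∈ Subgroup.centralizer {epsEl}, ∀ w ∈ W, g * w * g⁻¹ ∈ W) (hW : IsPGroup 2 W)
    {a b : Co0} (ha : a ∈ W) (hb : b ∈ W) : ⁅a, b⁆ = 1 ∨ ⁅a, b⁆ = cEl := by
  obtain ⟨M, hM1, hM2⟩ := exists_transport
  have hcent : ∀ g : Co0, g ∈ Subgroup.centralizer {epsEl} ↔ M * g * M⁻¹ ∈ ConwayInvol.Cent := by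
    intro g
    rw [Subgroup.mem_centralizer_singleton_iff, Subgroup.mem_centralizer_singleton_iff, ← hM1]
    constructor <;> intro h
    · rw [show M * g * M⁻¹ * (M * epsEl * M⁻¹) = M * (g * epsEl) * M⁻¹ by group, h]; group
    · have := congrArg (fun x => M⁻¹ * x * M) h
      simpa [mul_assoc] using this
  let W' : Subgroup ConwayInvol.Cent :=
    (W.map (MulAut.conj M).toMonoidHom).subgroupOf ConwayInvol.Cent
  have : W'.Normal := by
    constructor
    rintro ⟨w, hw⟩ ⟨v, hv, hvw⟩ ⟨g, hg⟩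
    change M * v * M⁻¹ = w at hvw
    refine ⟨(M⁻¹ * g * M) * v * (M⁻¹ * g * M)⁻¹, hn _ ((hcent _).2 ?_) v hv, ?_⟩
    · simpa [mul_assoc] using hg
    · show M * (M⁻¹ * g * M * v * (M⁻¹ * g * M)⁻¹) * M⁻¹ = g * w * g⁻¹
      rw [← hvw]; group
  have hW' : IsPGroup 2 W' := (hW.map _).comap_of_injective _ Subtype.val_injective
  have key : ∀ v ∈ W, ∃ q ∈ ConwayInvol.Qt, M * v * M⁻¹ = q ∨ M * v * M⁻¹ = negEl * q := by
    intro v hv
    have hm : M * v * M⁻¹ ∈ ConwayInvol.Cent := (hcent v).1 (hle hv)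
    have h1 : ConwayInvol.rho ⟨_, hm⟩ = 1 := rho_eq_one_of_normal hW' (g := ⟨_, hm⟩) ⟨v, hv, rfl⟩
    rcases ConwayInvol.rho_ker h1 with h | h
    · exact ⟨_, h, Or.inl rfl⟩
    · exact ⟨_, h, Or.inr (by rw [← mul_assoc, negEl_mul_self, one_mul])⟩
  have hcoe : M * ⁅a, b⁆ * M⁻¹ = ⁅M * a * M⁻¹, M * b * M⁻¹⁆ := by
    simp only [commutatorElement_def]; group
  have hn1 : ∀ q : Co0, ∀ r : Co0, ⁅negEl * q, r⁆ = ⁅q, r⁆ := fun q r => by
    simp only [commutatorElement_def, mul_inv_rev]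
    rw [show negEl * q * r * (q⁻¹ * negEl⁻¹) * r⁻¹ = negEl * (q * r * q⁻¹) * negEl⁻¹ * r⁻¹ by group,
      ← negEl_comm, mul_inv_cancel_right]
  have hn2 : ∀ q : Co0, ∀ r : Co0, ⁅q, negEl * r⁆ = ⁅q, r⁆ := fun q r => by
    rw [← inv_inv ⁅q, negEl * r⁆, commutatorElement_inv, hn1, commutatorElement_inv]
  obtain ⟨q, hq, eq⟩ := key a ha
  obtain ⟨r, hr, er⟩ := key b hb
  have : M * ⁅a, b⁆ * M⁻¹ = ⁅q, r⁆ := by
    rw [hcoe]
    rcases eq with eq | eq <;> rcases er with er | er <;> rw [eq, er] <;> simp only [hn1, hn2]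
  rcases comm_Qt hq hr with e | e
  · left
    rw [e] at this
    exact conj_eq_one_iff.1 this
  · right
    rw [e, ← hM2] at this
    exact mul_left_cancel (mul_right_cancel this)

/-- A normal 2-subgroup of the centraliser with the nontrivial commutator. -/
theorem exists_normal_comm : ∃ Q : Subgroup Co0, Q ≤ Subgroup.centralizer {epsEl} ∧
    (∀ g ∈ Subgroup.centralizer {epsEl}, ∀ w ∈ Q, g * w * g⁻¹ ∈ Q) ∧ IsPGroup 2 Q ∧
      ∃ a ∈ Q, ∃ b ∈ Q, ⁅a, b⁆ = cEl := by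
  obtain ⟨M, hM1, hM2⟩ := exists_transport
  have hcent : ∀ g : Co0, g ∈ Subgroup.centralizer {epsEl} ↔ M * g * M⁻¹ ∈ ConwayInvol.Cent := by
    intro g
    rw [Subgroup.mem_centralizer_singleton_iff, Subgroup.mem_centralizer_singleton_iff, ← hM1]
    constructor <;> intro h
    · rw [show M * g * M⁻¹ * (M * epsEl * M⁻¹) = M * (g * epsEl) * M⁻¹ by group, h]; group
    · have := congrArg (fun x => M⁻¹ * x * M) h
      simpa [mul_assoc] using this
  refine ⟨ConwayInvol.Qt.map (MulAut.conj M⁻¹).toMonoidHom, ?_, ?_, ?_, ?_⟩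
  · rintro _ ⟨q, hq, rfl⟩
    refine (hcent _).2 ?_
    simpa [mul_assoc] using ConwayInvol.Qt_le hq
  · rintro g hg _ ⟨q, hq, rfl⟩
    refine ⟨_, ConwayInvol.Qt_normal_conj (g := ⟨_, (hcent g).1 hg⟩) hq, ?_⟩
    simp [mul_assoc]
  · exact (IsPGroup.of_card ConwayInvol.card_Qt).map _
  · by_contra hno
    push Not at hno
    obtain ⟨⟨-, -, hcomm⟩, hcard⟩ := ConwayInvol.extraspecial_Qt
    have hab : ∀ x y : ConwayInvol.Qt, ⁅x, y⁆ = 1 := by
      intro x y
      rcases comm_Qt x.2 y.2 with e | e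
      · exact Subtype.ext e
      · exfalso
        refine hno _ ⟨x, x.2, rfl⟩ _ ⟨y, y.2, rfl⟩ ?_
        rw [← map_commutatorElement, e, ← hM2]
        simp [mul_assoc]
    have : commutator ConwayInvol.Qt = ⊥ := by
      rw [commutator_def, Subgroup.commutator_eq_bot_iff_le_centralizer]
      exact fun x _ y _ => (commutatorElement_eq_one_iff_mul_comm.1 (hab y x))
    rw [this] at hcomm
    rw [← hcomm, Subgroup.card_bot] at hcard
    exact absurd hcard (by norm_num)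

end CfsgLib.CoZeroInvol
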