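import Mathlib.GroupTheory.Sylow
import Mathlib.GroupTheory.SpecificGroups.Cyclic
import Cfsg.Prelude.Def_Local

/-!
The two parts of a subgroup of a central product of an image and a subgroup centralising it.
-/

set_option autoImplicit false

namespace CfsgLib.CoZeroInvol.Parts

variable {H : Type*} [Group H] {G : Type*} [Group G]

/-- Hypotheses of a central product. -/
def Comm (f : H →* G) (K : Subgroup G) : Prop := ∀ a : H, ∀ k ∈ K, Commute (f a) k

variable {f : H →* G} {K : Subgroup G}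

theorem Comm.mul_mul (hc : Comm f K) (a b : H) {k : G} (hk : k ∈ K) (l : G) :
    f a * k * (f b * l) = f (a * b) * (k * l) := by
  rw [map_mul, mul_assoc, ← mul_assoc k, ← (hc b k hk).eq]
  simp [mul_assoc]

theorem Comm.inv (hc : Comm f K) (a : H) {k : G} (hk : k ∈ K) : (f a * k)⁻¹ = f a⁻¹ * k⁻¹ := by
  rw [mul_inv_rev, map_inv]
  exact ((hc a k hk).inv_inv).eq.symm

theorem Comm.mul_pow (hc : Comm f K) (a : H) {k : G} (hk : k ∈ K) (n : ℕ) :
    (f a * k) ^ n = f (a ^ n) * k ^ n := by rw [(hc a k hk).mul_pow, map_pow]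

theorem Comm.conj (hc : Comm f K) (a b : H) {l : G} (hl : l ∈ K) :
    f b * (f a * l) * (f b)⁻¹ = f (b * a * b⁻¹) * l := by
  rw [← map_inv, map_mul, map_mul, mul_assoc (f b), mul_assoc (f a), ← (hc b⁻¹ l hl).eq]
  simp [mul_assoc]

/-- The part in the domain. -/
def domPart (hc : Comm f K) (U : Subgroup G) : Subgroup H where
  carrier := {a | ∃ k ∈ K, f a * k ∈ U}
  one_mem' := ⟨1, one_mem _, by simp⟩
  mul_mem' := by
    rintro a b ⟨k, hk, hu⟩ ⟨l, hl, hv⟩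
    exact ⟨k * l, mul_mem hk hl, hc.mul_mul a b hk l ▸ mul_mem hu hv⟩
  inv_mem' := by
    rintro a ⟨k, hk, hu⟩
    exact ⟨k⁻¹, inv_mem hk, hc.inv a hk ▸ inv_mem hu⟩

/-- The part in the centralising subgroup. -/
def kPart (hc : Comm f K) (U : Subgroup G) : Subgroup K where
  carrier := {k | ∃ a, f a * (k : G) ∈ U}
  one_mem' := ⟨1, by simp⟩
  mul_mem' := by
    rintro ⟨k, hk⟩ ⟨l, hl⟩ ⟨a, hu⟩ ⟨b, hv⟩
    exact ⟨a * b, show f (a * b) * (k * l) ∈ U from hc.mul_mul a b hk l ▸ mul_mem hu hv⟩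
  inv_mem' := by
    rintro ⟨k, hk⟩ ⟨a, hu⟩
    exact ⟨a⁻¹, show f a⁻¹ * k⁻¹ ∈ U from hc.inv a hk ▸ inv_mem hu⟩

theorem mem_domPart (hc : Comm f K) {U : Subgroup G} {a : H} {k : G} (hk : k ∈ K) (h : f a * k ∈ U) :
    a ∈ domPart hc U := ⟨k, hk, h⟩

theorem mem_kPart (hc : Comm f K) {U : Subgroup G} {a : H} {k : G} (hk : k ∈ K) (h : f a * k ∈ U) :
    (⟨k, hk⟩ : K) ∈ kPart hc U := ⟨a, h⟩

/-- The parts of a 2-subgroup are 2-groups, when the intersection has exponent two. -/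
theorem isPGroup_parts (hc : Comm f K) (hmeet : ∀ a : H, f a ∈ K → a * a = 1)
    (hf : Function.Injective f) {U : Subgroup G} (hU : IsPGroup 2 U) :
    IsPGroup 2 (domPart hc U) ∧ IsPGroup 2 (kPart hc U) := by
  constructor
  · rintro ⟨a, k, hk, hu⟩
    obtain ⟨j, hj⟩ := hU ⟨_, hu⟩
    refine ⟨j + 1, Subtype.ext ?_⟩
    have h := congrArg Subtype.val hj
    rw [SubgroupClass.coe_pow, OneMemClass.coe_one, hc.mul_pow a hk] at h
    have hmem : f (a ^ 2 ^ j) ∈ K := by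
      rw [eq_inv_of_mul_eq_one_left h]; exact inv_mem (pow_mem hk _)
    show a ^ 2 ^ (j + 1) = 1
    rw [pow_succ, pow_mul, pow_two, hmeet _ hmem]
  · rintro ⟨⟨k, hk⟩, a, hu⟩
    obtain ⟨j, hj⟩ := hU ⟨_, hu⟩
    refine ⟨j + 1, Subtype.ext (Subtype.ext ?_)⟩
    have h := congrArg Subtype.val hj
    rw [SubgroupClass.coe_pow, OneMemClass.coe_one, hc.mul_pow a hk] at h
    have hmem : f (a ^ 2 ^ j) ∈ K := by
      rw [eq_inv_of_mul_eq_one_left h]; exact inv_mem (pow_mem hk _)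
    have h2 := hmeet _ hmem
    show k ^ 2 ^ (j + 1) = 1
    rw [pow_succ, pow_mul, pow_two, eq_inv_of_mul_eq_one_right h, ← map_inv, ← map_mul, ← mul_inv_rev, h2,
      inv_one, map_one]

end CfsgLib.CoZeroInvol.Parts
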