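import Cfsg.Agent.Lib.CoZeroInvol.Syl
import Cfsg.Agent.Lib.CoZeroInvol.Normal
import Cfsg.Agent.Lib.CoZeroInvol.Parts
import Cfsg.Agent.Lib.CoZeroInvol.Inner
import Cfsg.Agent.Lib.Transfer.Fusion
import Cfsg.Agent.Lib.Invol.GlaubermanZStar
import Cfsg.Prelude.Def_Local

/-!
A standard subgroup isomorphic to Co0, with a centraliser having cyclic Sylow 2-subgroups, is normal.
-/

set_option autoImplicit false

universe u

namespace CfsgLib.CoZeroInvol

open Cfsg CfsgLib CfsgLib.Leech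
open scoped commutatorElement

/-- The data of a standard Co0. -/
structure StdData (G : Type u) [Group G] where
  f : Co0 →* G
  inj : Function.Injective f
  std : Cfsg.IsStandardSubgroup f.range
  cyc : ∀ R : Sylow 2 (Subgroup.centralizer (f.range : Set G)),
    IsCyclic (R : Subgroup (Subgroup.centralizer (f.range : Set G)))

namespace StdData

variable {G : Type u} [Group G] (D : StdData G)

/-- The centraliser. -/
abbrev K : Subgroup G := Subgroup.centralizer (D.f.range : Set G)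

/-- The normaliser. -/
abbrev N : Subgroup G := Subgroup.normalizer (D.f.range : Set G)

/-- The central involution. -/
def z : G := D.f negEl

/-- The involutions of the subgroup fused to the central one. -/
def P (a : Co0) : Prop := IsConj D.z (D.f a)

theorem comm : Parts.Comm D.f D.K := fun a _ hk => Subgroup.mem_centralizer_iff.1 hk _ ⟨a, rfl⟩

theorem range_le : D.f.range ≤ D.N := Subgroup.le_normalizer

theorem K_le : D.K ≤ D.N := Subgroup.centralizer_le_normalizer _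

theorem z_mem : D.z ∈ D.K := by
  rw [Subgroup.mem_centralizer_iff]
  rintro _ ⟨a, rfl⟩
  rw [z, ← map_mul, ← map_mul, negEl_comm]

theorem z_sq : D.z * D.z = 1 := by rw [z, ← map_mul, negEl_mul_self, map_one]

theorem z_ne : D.z ≠ 1 := fun h => negEl_ne_one (D.inj (h.trans (map_one D.f).symm))

theorem mem_K_iff {a : Co0} : D.f a ∈ D.K ↔ a = 1 ∨ a = negEl := by
  constructor
  · intro h
    have hc : a ∈ (Subgroup.center Co0 : Set Co0) := Subgroup.mem_center_iff.2 fun b =>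
      D.inj (by rw [map_mul, map_mul]; exact (D.comm b _ h).eq)
    rwa [center_eq] at hc
  · rintro (rfl | rfl)
    · rw [map_one]; exact one_mem _
    · exact D.z_mem

theorem meet_sq (a : Co0) (h : D.f a ∈ D.K) : a * a = 1 := by
  rcases D.mem_K_iff.1 h with rfl | rfl
  · exact one_mul 1
  · exact negEl_mul_self

theorem z_comm_f (a : Co0) : Commute (D.f a) D.z := D.comm a _ D.z_mem

theorem comm_two [Finite G] {U : Subgroup D.K} (hU : IsPGroup 2 U) {k l : D.K} (hk : k ∈ U) (hl : l ∈ U) :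
    Commute k l := by
  obtain ⟨R, hR⟩ := hU.exists_le_sylow
  have := D.cyc R
  obtain ⟨g, hg⟩ := IsCyclic.exists_generator (α := (R : Subgroup D.K))
  obtain ⟨i, hi⟩ := hg ⟨k, hR hk⟩
  obtain ⟨j, hj⟩ := hg ⟨l, hR hl⟩
  have hi' : g.1 ^ i = k := congrArg Subtype.val hi
  have hj' : g.1 ^ j = l := congrArg Subtype.val hj
  rw [← hi', ← hj']
  exact (Commute.refl g.1).zpow_zpow i j

theorem unique_invol [Finite G] {k : G} (hk : k ∈ D.K) (h2 : k * k = 1) : k = 1 ∨ k = D.z := by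
  let k' : D.K := ⟨k, hk⟩
  let z' : D.K := ⟨D.z, D.z_mem⟩
  have hkz : Commute z' k' :=
    Subtype.ext (show D.z * k = k * D.z from (D.comm negEl k hk).eq)
  let U : Subgroup D.K :=
    { carrier := {1, k', z', z' * k'}
      one_mem' := Or.inl rfl
      mul_mem' := by
        have a : k' * k' = 1 := Subtype.ext h2
        have b : z' * z' = 1 := Subtype.ext D.z_sq
        have c : k' * z' = z' * k' := hkz.eq.symm
        have d : k' * (z' * k') = z' := by rw [← mul_assoc, c, mul_assoc, a, mul_one]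
        have e : z' * k' * k' = z' := by rw [mul_assoc, a, mul_one]
        have e2 : z' * (z' * k') = k' := by rw [← mul_assoc, b, one_mul]
        have e3 : z' * k' * z' = k' := by rw [mul_assoc, c, e2]
        have e4 : z' * k' * (z' * k') = 1 := by rw [← mul_assoc, e3, a]
        rintro x y (rfl | rfl | rfl | rfl) (rfl | rfl | rfl | rfl) <;>
          simp only [one_mul, mul_one, a, b, c, d, e, e2, e3, e4, Set.mem_insert_iff,
            Set.mem_singleton_iff, true_or, or_true]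
      inv_mem' := by
        have a : k'⁻¹ = k' := inv_eq_of_mul_eq_one_right (Subtype.ext h2)
        have b : z'⁻¹ = z' := inv_eq_of_mul_eq_one_right (Subtype.ext D.z_sq)
        rintro x (rfl | rfl | rfl | rfl) <;>
          simp only [inv_one, mul_inv_rev, a, b, hkz.eq, Set.mem_insert_iff, Set.mem_singleton_iff, true_or,
            or_true] }
  have hsq : ∀ x ∈ U, x ^ 2 = 1 := by
    have a : k' * k' = 1 := Subtype.ext h2
    have b : z' * z' = 1 := Subtype.ext D.z_sq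
    rintro x (rfl | rfl | rfl | rfl)
    · exact one_pow 2
    · rw [pow_two, a]
    · rw [pow_two, b]
    · rw [hkz.mul_pow, pow_two, pow_two, a, b, one_mul]
  have hU : IsPGroup 2 U := fun x => ⟨1, Subtype.ext (by simpa using hsq x x.2)⟩
  obtain ⟨R, hR⟩ := hU.exists_le_sylow
  have := D.cyc R
  classical
  have : Fintype (R : Subgroup D.K) := Fintype.ofFinite _
  by_contra hne
  push Not at hne
  have h3 : ({1, ⟨k', hR (Or.inr (Or.inl rfl))⟩, ⟨z', hR (Or.inr (Or.inr (Or.inl rfl)))⟩} :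
      Finset (R : Subgroup D.K)).card = 3 := by
    rw [Finset.card_insert_of_notMem, Finset.card_insert_of_notMem, Finset.card_singleton]
    · simpa [Subtype.ext_iff, k', z'] using hne.2
    · simp only [Finset.mem_insert, Finset.mem_singleton, Subtype.ext_iff, OneMemClass.coe_one, k', z']
      rintro (h | h)
      · exact hne.1 h.symm
      · exact D.z_ne h.symm
  have hle : ({1, ⟨k', hR (Or.inr (Or.inl rfl))⟩, ⟨z', hR (Or.inr (Or.inr (Or.inl rfl)))⟩} :
      Finset (R : Subgroup D.K)) ⊆ Finset.univ.filter fun x => x ^ 2 = 1 := by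
    intro x hx
    simp only [Finset.mem_insert, Finset.mem_singleton] at hx
    rw [Finset.mem_filter]
    refine ⟨Finset.mem_univ _, ?_⟩
    rcases hx with rfl | rfl | rfl
    · exact one_pow 2
    · exact Subtype.ext (hsq k' (Or.inr (Or.inl rfl)))
    · exact Subtype.ext (hsq z' (Or.inr (Or.inr (Or.inl rfl))))
  have := (Finset.card_le_card hle).trans (IsCyclic.card_pow_eq_one_le (n := 2) two_pos)
  omega

theorem mem_N_of_comm [Finite G] {g : G} (h : Commute g D.z) : g ∈ D.N := by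
  show g ∈ Subgroup.normalizer _
  rw [D.std.2.2.2]
  by_contra hg
  have hodd := D.std.2.1.2 g hg
  have hmem : D.z ∈ D.K ⊓ D.K.map (MulAut.conj g).toMonoidHom :=
    ⟨D.z_mem, D.z, D.z_mem, show g * D.z * g⁻¹ = D.z by rw [h.eq, mul_inv_cancel_right]⟩
  have h2 : orderOf D.z = 2 := orderOf_eq_prime (by rw [pow_two, D.z_sq]) D.z_ne
  have := Subgroup.card_dvd_of_le (Subgroup.zpowers_le.2 hmem)
  rw [Nat.card_zpowers, h2] at this
  exact (Nat.not_even_iff_odd.2 hodd) (even_iff_two_dvd.2 this)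

theorem conj_range {g : G} (hg : g ∈ D.N) (a : Co0) : ∃ b, g * D.f a * g⁻¹ = D.f b := by
  obtain ⟨b, hb⟩ := (Subgroup.mem_normalizer_iff.1 hg (D.f a)).1 ⟨a, rfl⟩
  exact ⟨b, hb.symm⟩

theorem conj_z {g : G} (hg : g ∈ D.N) : g * D.z * g⁻¹ = D.z := by
  have hK : g * D.z * g⁻¹ ∈ D.K := by
    rw [Subgroup.mem_centralizer_iff]
    rintro _ ⟨a, rfl⟩
    obtain ⟨b, hb⟩ := D.conj_range (inv_mem hg) a
    have e : D.f a = g * D.f b * g⁻¹ := by rw [← hb]; group
    rw [e, show g * D.f b * g⁻¹ * (g * D.z * g⁻¹) = g * (D.f b * D.z) * g⁻¹ by group, (D.z_comm_f b).eq]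
    group
  obtain ⟨b, hb⟩ := D.conj_range hg negEl
  change g * D.z * g⁻¹ = _ at hb
  rw [hb] at hK ⊢
  rcases D.mem_K_iff.1 hK with rfl | rfl
  · rw [map_one, conj_eq_one_iff] at hb
    exact absurd hb D.z_ne
  · rfl

theorem comm_of_mem_N {g : G} (hg : g ∈ D.N) : Commute g D.z := mul_inv_eq_iff_eq_mul.1 (D.conj_z hg)

theorem decomp {g : G} (hg : g ∈ D.N) : ∃ a, ∃ k ∈ D.K, g = D.f a * k := by
  let φ : Co0 →* D.f.range :=
    ((MulAut.conj g).toMonoidHom.comp D.f).codRestrict _ fun a => by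
      obtain ⟨b, hb⟩ := D.conj_range hg a
      exact ⟨b, hb.symm⟩
  have hφ : Function.Bijective φ := by
    refine ⟨fun a b h => D.inj ?_, fun y => ?_⟩
    · simpa [φ] using congrArg Subtype.val h
    · obtain ⟨b, hb⟩ := y.2
      obtain ⟨a, ha⟩ := D.conj_range (inv_mem hg) b
      refine ⟨a, Subtype.ext ?_⟩
      show g * D.f a * g⁻¹ = _
      rw [← ha, ← hb]; group
  let α : MulAut Co0 := (MulEquiv.ofBijective φ hφ).trans (MonoidHom.ofInjective D.inj).symm
  have hα : ∀ a, D.f (α a) = g * D.f a * g⁻¹ := by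
    intro a
    have h : MonoidHom.ofInjective D.inj (α a) = φ a := (MonoidHom.ofInjective D.inj).apply_symm_apply _
    exact congrArg Subtype.val h
  obtain ⟨c, hc⟩ := exists_conj_eq α
  refine ⟨c, (D.f c)⁻¹ * g, ?_, by rw [mul_inv_cancel_left]⟩
  rw [Subgroup.mem_centralizer_iff]
  rintro _ ⟨a, rfl⟩
  have h := hα a
  rw [hc, map_mul, map_mul, map_inv] at h
  calc D.f a * ((D.f c)⁻¹ * g) = (D.f c)⁻¹ * (D.f c * D.f a * (D.f c)⁻¹) * g := by group
    _ = (D.f c)⁻¹ * g * D.f a := by rw [h]; group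

variable [Finite G]

theorem conj_pow_mem {g : G} (h : g * D.z * g⁻¹ ∈ D.N) : ∃ b, g⁻¹ * D.z * g = D.f b := by
  have : Fact (Nat.Prime 2) := ⟨Nat.prime_two⟩
  obtain ⟨a, k, hk, e⟩ := D.decomp h
  have htt : (D.f a * k) * (D.f a * k) = 1 := by
    rw [← e]; simp [mul_assoc, ← mul_assoc D.z D.z, D.z_sq]
  rw [D.comm.mul_mul a a hk] at htt
  have hmem : D.f (a * a) ∈ D.K := by
    rw [eq_inv_of_mul_eq_one_left htt]; exact inv_mem (mul_mem hk hk)
  have hk2 : (k * k) * (k * k) = 1 := by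
    have h1 := D.meet_sq _ hmem
    rw [eq_inv_of_mul_eq_one_right htt, ← mul_inv_rev, ← map_mul, h1, map_one, inv_one]
  have hkp : IsPGroup 2 (Subgroup.zpowers (⟨k, hk⟩ : D.K)) := by
    rintro ⟨x, i, rfl⟩
    refine ⟨2, Subtype.ext ?_⟩
    show ((⟨k, hk⟩ : D.K) ^ i) ^ 2 ^ 2 = 1
    rw [← zpow_natCast, ← zpow_mul, mul_comm, zpow_mul, zpow_natCast,
      show (⟨k, hk⟩ : D.K) ^ 2 ^ 2 = 1 from Subtype.ext (show k ^ 2 ^ 2 = 1 by
        simp [pow_succ, ← mul_assoc] at hk2 ⊢; exact hk2), one_zpow]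
  obtain ⟨R, hR⟩ := hkp.exists_le_sylow
  have := D.cyc R
  obtain ⟨r, hr⟩ := IsCyclic.exists_generator (α := (R : Subgroup D.K))
  have hrR : orderOf r = Nat.card (R : Subgroup D.K) := orderOf_eq_card_of_forall_mem_zpowers hr
  obtain ⟨i, hi⟩ := hr ⟨⟨k, hk⟩, hR (Subgroup.mem_zpowers _)⟩
  have hcomm : Commute r.1.1 (D.f a * k) := by
    refine Commute.mul_right ((D.comm a _ r.1.2).symm) ?_
    have h1 : (r.1.1 : G) ^ i = k := by
      have := congrArg (fun x : (R : Subgroup D.K) => x.1.1) hi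
      simpa using this
    rw [← h1]
    exact (Commute.refl _).zpow_right i
  have hN : g⁻¹ * r.1.1 * g ∈ D.N := D.mem_N_of_comm (by
    show _ = _
    have h1 := hcomm.eq
    rw [← e] at h1
    calc g⁻¹ * r.1.1 * g * D.z = g⁻¹ * (r.1.1 * (g * D.z * g⁻¹)) * g := by group
      _ = D.z * (g⁻¹ * r.1.1 * g) := by rw [h1]; group)
  obtain ⟨b, l, hl, el⟩ := D.decomp hN
  set n := Nat.card D.K / 2 with hn
  have heven : 2 ∣ Nat.card D.K := even_iff_two_dvd.1 D.std.2.1.1
  have hn2 : n * 2 = Nat.card D.K := Nat.div_mul_cancel heven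
  have hsq : ∀ x ∈ D.K, x ^ n * x ^ n = 1 := by
    intro x hx
    rw [← pow_two, ← pow_mul, hn2]
    exact congrArg Subtype.val (pow_card_eq_one' (x := (⟨x, hx⟩ : D.K)))
  have hrz : (r.1.1 : G) ^ n = D.z := by
    refine (D.unique_invol (pow_mem r.1.2 _) (hsq _ r.1.2)).resolve_left fun h1 => ?_
    have h2 : r ^ n = 1 := Subtype.ext (Subtype.ext h1)
    have hd := orderOf_dvd_of_pow_eq_one h2
    rw [hrR] at hd
    have h3 := Nat.mul_dvd_mul_right hd 2
    rw [hn2, R.card_eq_multiplicity, ← pow_succ] at h3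
    exact Nat.pow_succ_factorization_not_dvd Nat.card_pos.ne' Nat.prime_two h3
  have hp : g⁻¹ * D.z * g = D.f (b ^ n) * l ^ n := by
    rw [← D.comm.mul_pow b hl, ← el, ← hrz]
    have := conj_pow (a := g⁻¹) (b := (r.1.1 : G)) (i := n)
    rw [inv_inv] at this
    exact this.symm
  rcases D.unique_invol (pow_mem hl _) (hsq l hl) with h1 | h1
  · exact ⟨b ^ n, by rw [hp, h1, mul_one]⟩
  · exact ⟨b ^ n * negEl, by rw [hp, h1, map_mul]; rfl⟩

/-- A conjugate of the central involution in the normaliser lies in the subgroup. -/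
theorem range_of_mem_N {g : G} (h : g * D.z * g⁻¹ ∈ D.N) : ∃ a, g * D.z * g⁻¹ = D.f a := by
  obtain ⟨b, hb⟩ := D.conj_pow_mem h
  have h' : g⁻¹ * D.z * g⁻¹⁻¹ ∈ D.N := by rw [inv_inv, hb]; exact D.range_le ⟨b, rfl⟩
  obtain ⟨a, ha⟩ := D.conj_pow_mem h'
  exact ⟨a, by simpa using ha⟩

theorem P_conj {a b : Co0} (h : IsConj a b) (hb : D.P b) : D.P a := hb.trans (D.f.map_isConj h.symm)

theorem P_sq {a : Co0} (h : D.P a) : a * a = 1 := by
  obtain ⟨g, hg⟩ := isConj_iff.1 h
  refine D.inj ?_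
  rw [map_mul, ← hg, map_one, show g * D.z * g⁻¹ * (g * D.z * g⁻¹) = g * (D.z * D.z) * g⁻¹ by group, D.z_sq,
    mul_one, mul_inv_cancel]

theorem P_ne_one {a : Co0} (h : D.P a) : a ≠ 1 := by
  rintro rfl
  obtain ⟨g, hg⟩ := isConj_iff.1 h
  rw [map_one, conj_eq_one_iff] at hg
  exact D.z_ne hg

theorem P_negEl : D.P negEl := IsConj.refl _

/-- Moving the first of two commuting fused involutions to the centre. -/
theorem move {a b : Co0} (ha : D.P a) (hb : D.P b) (hab : Commute a b) (hne : a ≠ b) :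
    ∃ b', D.P b' ∧ b' ≠ negEl ∧ IsConj (D.f (a * b)) (D.f (negEl * b')) := by
  obtain ⟨g, hg⟩ := isConj_iff.1 ha
  obtain ⟨h, hh⟩ := isConj_iff.1 hb
  have hN : g⁻¹ * D.f b * g ∈ D.N := D.mem_N_of_comm (by
    show _ = _
    calc g⁻¹ * D.f b * g * D.z = g⁻¹ * (D.f b * (g * D.z * g⁻¹)) * g := by group
      _ = D.z * (g⁻¹ * D.f b * g) := by rw [hg, ← map_mul, ← hab.eq, map_mul, ← hg]; group)
  have e : g⁻¹ * h * D.z * (g⁻¹ * h)⁻¹ = g⁻¹ * D.f b * g := by rw [← hh]; group
  obtain ⟨b', hb'⟩ := D.range_of_mem_N (g := g⁻¹ * h) (by rw [e]; exact hN)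
  refine ⟨b', isConj_iff.2 ⟨_, hb'⟩, ?_, isConj_iff.2 ⟨g⁻¹, ?_⟩⟩
  · rintro rfl
    rw [e] at hb'
    change _ = D.z at hb'
    refine hne (D.inj ?_)
    rw [← hg, ← hb']; group
  · rw [inv_inv, map_mul, map_mul, ← hb', e, ← hg, z]
    group

theorem P_product {a b c : Co0} (h : IsConj (D.f (a * b)) (D.f c)) (hc : D.P c) : D.P (a * b) :=
  hc.trans h.symm

/-- If minus an octad involution is not fused, an octad involution is not. -/
theorem eps_not_P (hc : ¬ D.P cEl) : ¬ D.P epsEl := by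
  intro hε
  have hneg : ∀ {v : Co0}, IsConj v epsEl → IsConj (negEl * v) cEl := fun {v} hv => by
    rw [cEl_eq, ← negEl_comm]; exact isConj_mul_negEl hv
  have h := sign_checks
  simp only [Bool.and_eq_true, Nat.beq_eq] at h
  have h6 : IsConj epsEl (signEl 6) := isConj_octad (by norm_num) h.1.1.1.1.2
  have h188 : IsConj epsEl (signEl (186 ^^^ 6)) := isConj_octad (by decide) h.1.1.1.2
  have hP6 : D.P (signEl 6) := D.P_conj h6.symm hε
  have hne : epsEl ≠ signEl 6 := signEl_ne (by norm_num) (by norm_num) (by norm_num)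
  have hcomm : Commute epsEl (signEl 6) := by
    show _ = _
    rw [epsEl, signEl_mul, signEl_mul, Nat.xor_comm]
  by_cases hd : D.P delEl
  · obtain ⟨g, hg⟩ := isConj_iff.1 hε
    have hz : g⁻¹ * D.z * g ∈ D.N := D.mem_N_of_comm (by
      show _ = _
      calc g⁻¹ * D.z * g * D.z = g⁻¹ * (D.z * (g * D.z * g⁻¹)) * g := by group
        _ = D.z * (g⁻¹ * D.z * g) := by rw [hg, ← (D.z_comm_f epsEl).eq, ← hg]; group)
    obtain ⟨p, hp⟩ := D.range_of_mem_N (g := g⁻¹) (by rwa [inv_inv])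
    rw [inv_inv] at hp
    obtain ⟨h', hh⟩ := isConj_iff.1 hP6
    have hN : g⁻¹ * D.f (signEl 6) * g ∈ D.N := D.mem_N_of_comm (by
      show _ = _
      calc g⁻¹ * D.f (signEl 6) * g * D.z = g⁻¹ * (D.f (signEl 6) * (g * D.z * g⁻¹)) * g := by group
        _ = D.z * (g⁻¹ * D.f (signEl 6) * g) := by rw [hg, ← map_mul, ← hcomm.eq, map_mul, ← hg]; group)
    have e : g⁻¹ * h' * D.z * (g⁻¹ * h')⁻¹ = g⁻¹ * D.f (signEl 6) * g := by rw [← hh]; group
    obtain ⟨q, hq⟩ := D.range_of_mem_N (g := g⁻¹ * h') (by rw [e]; exact hN)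
    rw [e] at hq
    have h1 : g * D.f (p * q) * g⁻¹ = D.f (negEl * signEl 6) := by
      rw [map_mul, map_mul, ← hp, ← hq]
      show _ = D.z * _
      group
    have h2 : g * D.f (negEl * (p * q)) * g⁻¹ = D.f (negEl * signEl (186 ^^^ 6)) := by
      rw [map_mul, show g * (D.f negEl * D.f (p * q)) * g⁻¹ = g * D.z * g⁻¹ * (g * D.f (p * q) * g⁻¹) by
        rw [z]; group, h1, hg, ← map_mul, ← signEl_mul, ← mul_assoc, negEl_comm, mul_assoc]
      rfl
    have hy : ¬ D.P (p * q) := fun hP => hc (D.P_conj (hneg h6.symm).symm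
      (hP.trans (isConj_iff.2 ⟨g, h1⟩)))
    have hy' : ¬ D.P (negEl * (p * q)) := fun hP => hc (D.P_conj (hneg h188.symm).symm
      (hP.trans (isConj_iff.2 ⟨g, h2⟩)))
    have hsq : p * q * (p * q) = 1 := by
      refine D.inj ?_
      have e1 : D.f (p * q) = g⁻¹ * D.f (negEl * signEl 6) * g := by rw [← h1]; group
      rw [map_mul, e1, map_one, show g⁻¹ * D.f (negEl * signEl 6) * g * (g⁻¹ * D.f (negEl * signEl 6) * g) =
        g⁻¹ * (D.f (negEl * signEl 6) * D.f (negEl * signEl 6)) * g by group, ← map_mul,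
        negEl_eq_signEl, signEl_mul, signEl_self, map_one, mul_one, inv_mul_cancel]
    rcases classes hsq with e' | e' | e' | e' | e'
    · rw [e', map_one, mul_one, mul_inv_cancel, ← map_one D.f] at h1
      have h3 := D.inj h1
      rw [negEl_eq_signEl, signEl_mul, ← signEl_zero] at h3
      exact absurd (signEl_eq_signEl (by norm_num) (by decide) h3) (by decide)
    · exact hy (e' ▸ D.P_negEl)
    · exact hy (D.P_conj e' hε)
    · exact hy' (D.P_conj ((isConj_mul_negEl e').trans (by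
        rw [cEl_eq, mul_assoc, negEl_mul_self, mul_one])) hε |> fun hP => negEl_comm (p * q) ▸ hP)
    · exact hy (D.P_conj e' hd)
  · obtain ⟨b', hb', hbne, hb⟩ := D.move hε hP6 hcomm hne
    have hP : D.P (negEl * b') := by
      have h3 : D.P (epsEl * signEl 6) := by
        rw [epsEl, signEl_mul]; exact D.P_conj h188.symm hε
      exact h3.trans hb
    rcases classes (D.P_sq hb') with e | e | e | e | e
    · exact D.P_ne_one hb' e
    · exact hbne e
    · exact hc (D.P_conj (hneg e).symm hP)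
    · exact hc (D.P_conj e.symm hb')
    · exact hd (D.P_conj e.symm hb')

/-- A dodecad involution is not fused when the others are not. -/
theorem del_not_P (hc : ¬ D.P cEl) (he : ¬ D.P epsEl) : ¬ D.P delEl := by
  intro hd
  have h := sign_checks
  simp only [Bool.and_eq_true, Nat.beq_eq] at h
  have h14 : D.P (signEl 14) := D.P_conj (isConj_dodecad (by norm_num) h.1.1.2).symm hd
  obtain ⟨b', hb', hbne, hb⟩ := D.move hd h14 (by
    show _ = _
    rw [delEl, signEl_mul, signEl_mul, Nat.xor_comm]) (signEl_ne (by norm_num) (by norm_num) (by norm_num))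
  have hnot : ¬ D.P (delEl * signEl 14) := by
    rw [delEl, signEl_mul]
    exact fun hP => he (D.P_conj (isConj_octad (by decide) h.1.2) hP)
  rcases classes (D.P_sq hb') with e | e | e | e | e
  · exact D.P_ne_one hb' e
  · exact hbne e
  · exact he (D.P_conj e.symm hb')
  · exact hc (D.P_conj e.symm hb')
  · refine hnot (D.P_product hb ?_)
    rw [← negEl_comm]
    exact D.P_conj ((isConj_mul_negEl e).trans delEl_mul_negEl) hd

/-! ### The Sylow subgroup -/

/-- A Sylow subgroup of the centraliser. -/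
noncomputable def R0 : Subgroup G :=
  ((default : Sylow 2 D.K) : Subgroup D.K).map D.K.subtype

theorem R0_le : D.R0 ≤ D.K := Subgroup.map_subtype_le _

theorem isPGroup_R0 : IsPGroup 2 D.R0 := (default : Sylow 2 D.K).2.map _

/-- A Sylow subgroup of the normaliser. -/
noncomputable def S : Subgroup G where
  carrier := {g | ∃ t ∈ T0, ∃ r ∈ D.R0, g = D.f t * r}
  one_mem' := ⟨1, one_mem _, 1, one_mem _, by rw [map_one, one_mul]⟩
  mul_mem' := by
    rintro _ _ ⟨t, ht, r, hr, rfl⟩ ⟨t', ht', r', hr', rfl⟩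
    exact ⟨_, mul_mem ht ht', _, mul_mem hr hr', D.comm.mul_mul t t' (D.R0_le hr) r'⟩
  inv_mem' := by
    rintro _ ⟨t, ht, r, hr, rfl⟩
    exact ⟨_, inv_mem ht, _, inv_mem hr, D.comm.inv t (D.R0_le hr)⟩

theorem S_le : D.S ≤ D.N := by
  rintro _ ⟨t, -, r, hr, rfl⟩
  exact mul_mem (D.range_le ⟨t, rfl⟩) (D.K_le (D.R0_le hr))

theorem f_mem_S {t : Co0} (ht : t ∈ T0) : D.f t ∈ D.S := ⟨t, ht, 1, one_mem _, (mul_one _).symm⟩

theorem z_mem_S : D.z ∈ D.S := D.f_mem_S negEl_mem_T0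

theorem isPGroup_S : IsPGroup 2 D.S := by
  rintro ⟨_, t, ht, r, hr, rfl⟩
  have hT : IsPGroup 2 T0 := IsPGroup.of_card card_T0
  obtain ⟨i, hi⟩ := hT ⟨t, ht⟩
  obtain ⟨j, hj⟩ := D.isPGroup_R0 ⟨r, hr⟩
  refine ⟨i + j, Subtype.ext ?_⟩
  show (D.f t * r) ^ 2 ^ (i + j) = 1
  have hi' : t ^ 2 ^ i = 1 := congrArg Subtype.val hi
  have hj' : r ^ 2 ^ j = 1 := congrArg Subtype.val hj
  rw [D.comm.mul_pow t (D.R0_le hr), pow_add, pow_mul, hi', one_pow, map_one, one_mul, mul_comm, pow_mul, hj',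
    one_pow]

theorem max_T0 {U : Subgroup Co0} (h : T0 ≤ U) (hU : IsPGroup 2 U) : U = T0 := by
  have : Fact (Nat.Prime 2) := ⟨Nat.prime_two⟩
  have hT : IsPGroup 2 T0 := IsPGroup.of_card card_T0
  exact (hT.toSylow (fun hd => (Nat.not_even_iff_odd.2 index_T0) (even_iff_two_dvd.2 hd))).3 hU h

/-- The subgroup is a maximal 2-subgroup of the normaliser. -/
theorem max_S {U : Subgroup G} (hUN : U ≤ D.N) (hU : IsPGroup 2 U) (h : D.S ≤ U) : U = D.S := by
  refine le_antisymm (fun u hu => ?_) h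
  obtain ⟨hA, hK⟩ := Parts.isPGroup_parts D.comm D.meet_sq D.inj hU
  have hT : T0 ≤ Parts.domPart D.comm U := fun t ht =>
    Parts.mem_domPart D.comm (one_mem _) (by rw [mul_one]; exact h (D.f_mem_S ht))
  have hR : ((default : Sylow 2 D.K) : Subgroup D.K) ≤ Parts.kPart D.comm U := fun r hr =>
    Parts.mem_kPart D.comm r.2 (a := 1) (h ⟨1, one_mem _, r, ⟨r, hr, rfl⟩, rfl⟩)
  obtain ⟨a, k, hk, rfl⟩ := D.decomp (hUN hu)
  have ha : a ∈ T0 := max_T0 hT hA ▸ Parts.mem_domPart D.comm hk hu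
  have hk' : (⟨k, hk⟩ : D.K) ∈ ((default : Sylow 2 D.K) : Subgroup D.K) :=
    (default : Sylow 2 D.K).3 hK hR ▸ Parts.mem_kPart D.comm hk hu
  exact ⟨a, ha, k, ⟨_, hk', rfl⟩, rfl⟩

theorem card_le_S {U : Subgroup G} (hUN : U ≤ D.N) (hU : IsPGroup 2 U) : Nat.card U ≤ Nat.card D.S := by
  have : Fact (Nat.Prime 2) := ⟨Nat.prime_two⟩
  have hS' : IsPGroup 2 (D.S.subgroupOf D.N) := D.isPGroup_S.comap_of_injective _ Subtype.val_injective
  obtain ⟨P, hP⟩ := hS'.exists_le_sylow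
  have hPS : (P : Subgroup D.N).map D.N.subtype = D.S :=
    D.max_S (Subgroup.map_subtype_le _) (P.2.map _) fun s hs => ⟨⟨s, D.S_le hs⟩, hP hs, rfl⟩
  have hU' : IsPGroup 2 (U.subgroupOf D.N) := hU.comap_of_injective _ Subtype.val_injective
  obtain ⟨Q, hQ⟩ := hU'.exists_le_sylow
  calc Nat.card U = Nat.card (U.subgroupOf D.N) := (Nat.card_congr (Subgroup.subgroupOfEquivOfLe hUN).toEquiv).symm
    _ ≤ Nat.card (Q : Subgroup D.N) := Nat.le_of_dvd Nat.card_pos (Subgroup.card_dvd_of_le hQ)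
    _ = Nat.card (P : Subgroup D.N) := by rw [Q.card_eq_multiplicity, P.card_eq_multiplicity]
    _ = Nat.card D.S := by
      rw [← hPS]; exact Nat.card_congr ((P : Subgroup D.N).equivMapOfInjective _ D.N.subtype_injective).toEquiv

theorem central_S {t : Co0} (ht : ∀ s ∈ T0, s * t = t * s) (s : G) (hs : s ∈ D.S) :
    Commute s (D.f t) := by
  obtain ⟨u, hu, r, hr, rfl⟩ := hs
  exact Commute.mul_left (show Commute (D.f u) (D.f t) by show _ = _; rw [← map_mul, ← map_mul, ht u hu])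
    (D.comm t r (D.R0_le hr)).symm

theorem central_invol {g : G} (hg : g ∈ D.S) (hc : ∀ s ∈ D.S, Commute s g) (h2 : g * g = 1) (h1 : g ≠ 1) :
    g = D.z ∨ g = D.f epsEl ∨ g = D.f cEl := by
  obtain ⟨t, ht, r, hr, rfl⟩ := hg
  have hrK := D.R0_le hr
  have htc : ∀ s ∈ T0, s * t = t * s := fun s hs => D.inj (by
    have h := (hc _ (D.f_mem_S hs)).eq
    have hr' := (D.comm s r hrK).eq
    rw [map_mul, map_mul]
    refine mul_right_cancel (b := r) ?_
    rw [mul_assoc, h, mul_assoc, ← hr', mul_assoc])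
  have hd := center_T0 ht htc
  have htt : t * t = 1 := by
    rcases hd with rfl | rfl | rfl | rfl
    exacts [one_mul 1, negEl_mul_self, epsEl_sq, cEl_sq]
  rw [D.comm.mul_mul t t hrK, htt, map_one, one_mul] at h2
  have hεn : epsEl * negEl = cEl := cEl_eq.symm
  have hcn : cEl * negEl = epsEl := by rw [cEl_eq, mul_assoc, negEl_mul_self, mul_one]
  rcases D.unique_invol hrK h2 with rfl | rfl
  · rw [mul_one] at h1 ⊢
    rcases hd with rfl | rfl | rfl | rfl
    · exact absurd (map_one _) h1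
    exacts [Or.inl rfl, Or.inr (Or.inl rfl), Or.inr (Or.inr rfl)]
  · rw [show D.f t * D.z = D.f (t * negEl) from (map_mul _ _ _).symm] at h1 ⊢
    rcases hd with rfl | rfl | rfl | rfl
    · rw [one_mul]; exact Or.inl rfl
    · rw [negEl_mul_self] at h1; exact absurd (map_one _) h1
    · rw [hεn]; exact Or.inr (Or.inr rfl)
    · rw [hcn]; exact Or.inr (Or.inl rfl)

/-- Membership in the centraliser of the three central involutions. -/
def InH (x : G) : Prop := Commute x D.z ∧ Commute x (D.f epsEl) ∧ Commute x (D.f cEl)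

theorem comm_H {W : Subgroup G} (hWH : ∀ w ∈ W, D.InH w)
    (hn : ∀ x, D.InH x → ∀ w ∈ W, x * w * x⁻¹ ∈ W) (hW : IsPGroup 2 W) {u v : G} (hu : u ∈ W) (hv : v ∈ W) :
    ⁅u, v⁆ = 1 ∨ ⁅u, v⁆ = D.f cEl := by
  obtain ⟨hA, hK⟩ := Parts.isPGroup_parts D.comm D.meet_sq D.inj hW
  have hle : Parts.domPart D.comm W ≤ Subgroup.centralizer {epsEl} := by
    rintro a ⟨k, hk, hw⟩
    rw [Subgroup.mem_centralizer_singleton_iff]
    refine D.inj ?_
    have h := (hWH _ hw).2.1.eq
    rw [map_mul, map_mul]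
    refine mul_right_cancel (b := k) ?_
    rw [mul_assoc, (D.comm epsEl k hk).eq, ← mul_assoc, h, mul_assoc]
  have hna : ∀ c ∈ Subgroup.centralizer {epsEl}, ∀ a ∈ Parts.domPart D.comm W,
      c * a * c⁻¹ ∈ Parts.domPart D.comm W := by
    rintro c hc a ⟨k, hk, hw⟩
    have hce : c * epsEl = epsEl * c := Subgroup.mem_centralizer_singleton_iff.1 hc
    have hH : D.InH (D.f c) := by
      refine ⟨D.z_comm_f c, ?_, ?_⟩
      · show _ = _
        rw [← map_mul, ← map_mul, hce]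
      · show _ = _
        rw [← map_mul, ← map_mul, cEl_eq, ← mul_assoc, hce, mul_assoc, negEl_comm c, ← mul_assoc]
    exact Parts.mem_domPart D.comm hk (D.comm.conj a c hk ▸ hn _ hH _ hw)
  obtain ⟨a, k, hk, rfl⟩ := D.decomp (D.mem_N_of_comm (hWH u hu).1)
  obtain ⟨b, l, hl, rfl⟩ := D.decomp (D.mem_N_of_comm (hWH v hv).1)
  have hkl : ⁅k, l⁆ = 1 := by
    have h : Commute (⟨k, hk⟩ : D.K) ⟨l, hl⟩ :=
      D.comm_two hK (Parts.mem_kPart D.comm hk hu) (Parts.mem_kPart D.comm hl hv)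
    exact commutatorElement_eq_one_iff_mul_comm.2 (congrArg Subtype.val h.eq)
  have e : ⁅D.f a * k, D.f b * l⁆ = D.f ⁅a, b⁆ * ⁅k, l⁆ := by
    simp only [commutatorElement_def]
    rw [D.comm.inv a hk, D.comm.inv b hl, D.comm.mul_mul a b hk l,
      D.comm.mul_mul (a * b) a⁻¹ (mul_mem hk hl) k⁻¹,
      D.comm.mul_mul (a * b * a⁻¹) b⁻¹ (mul_mem (mul_mem hk hl) (inv_mem hk)) l⁻¹]
  rw [e, hkl, mul_one]
  rcases comm_of_normal hle hna hA (Parts.mem_domPart D.comm hk hu) (Parts.mem_domPart D.comm hl hv) with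
    h | h <;> rw [h]
  · exact Or.inl (map_one _)
  · exact Or.inr rfl

theorem normalizer_S_le : Subgroup.normalizer (D.S : Set G) ≤ D.N := by
  intro g hg
  refine D.mem_N_of_comm (mul_inv_eq_iff_eq_mul.1 ?_)
  by_contra hgz
  set e := D.f epsEl with he
  set c := D.f cEl with hc
  have hec : e * D.z = c := by rw [he, hc, z, ← map_mul, cEl_eq]
  have h3 : ∀ x : G, x = D.z ∨ x = e ∨ x = c →
      x ∈ D.S ∧ (∀ s ∈ D.S, Commute s x) ∧ x * x = 1 ∧ x ≠ 1 := by
    rintro x (rfl | rfl | rfl)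
    · exact ⟨D.z_mem_S, fun s hs => D.central_S (fun t _ => negEl_comm t) s hs, D.z_sq, D.z_ne⟩
    · exact ⟨D.f_mem_S (signEl_mem_T0 _), fun s hs => D.central_S eps_central s hs,
        by rw [he, ← map_mul, epsEl_sq, map_one], fun h => eps_ne.1 (D.inj (h.trans (map_one _).symm))⟩
    · exact ⟨D.f_mem_S (signEl_mem_T0 _), fun s hs => D.central_S c_central s hs,
        by rw [hc, ← map_mul, cEl_sq, map_one], fun h => eps_ne.2.2.1 (D.inj (h.trans (map_one _).symm))⟩
  have hperm : ∀ g' ∈ Subgroup.normalizer (D.S : Set G), ∀ x : G, x = D.z ∨ x = e ∨ x = c →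
      g' * x * g'⁻¹ = D.z ∨ g' * x * g'⁻¹ = e ∨ g' * x * g'⁻¹ = c := by
    intro g' hg' x hx
    obtain ⟨hxS, hxc, hx2, hx1⟩ := h3 x hx
    refine D.central_invol ((Subgroup.mem_normalizer_iff.1 hg' x).1 hxS) (fun s hs => ?_) ?_ ?_
    · have hs' := (Subgroup.mem_normalizer_iff.1 (inv_mem hg') s).1 hs
      have h := (hxc _ hs').eq
      rw [inv_inv] at h
      show _ = _
      calc s * (g' * x * g'⁻¹) = g' * (g'⁻¹ * s * g' * x) * g'⁻¹ := by group
        _ = g' * x * g'⁻¹ * s := by rw [h]; group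
    · rw [show g' * x * g'⁻¹ * (g' * x * g'⁻¹) = g' * (x * x) * g'⁻¹ by group, hx2, mul_one, mul_inv_cancel]
    · rw [Ne, conj_eq_one_iff]; exact hx1
  have hH : ∀ g' ∈ Subgroup.normalizer (D.S : Set G), ∀ x, D.InH x → D.InH (g' * x * g'⁻¹) := by
    intro g' hg' x hx
    have key : ∀ y : G, y = D.z ∨ y = e ∨ y = c → Commute (g' * x * g'⁻¹) y := by
      intro y hy
      have h := hperm _ (inv_mem hg') y hy
      rw [inv_inv] at h
      have hcy : Commute x (g'⁻¹ * y * g') := by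
        rcases h with h | h | h <;> rw [h]
        exacts [hx.1, hx.2.1, hx.2.2]
      show _ = _
      calc g' * x * g'⁻¹ * y = g' * (x * (g'⁻¹ * y * g')) * g'⁻¹ := by group
        _ = y * (g' * x * g'⁻¹) := by rw [hcy.eq]; group
    exact ⟨key _ (Or.inl rfl), key _ (Or.inr (Or.inl rfl)), key _ (Or.inr (Or.inr rfl))⟩
  -- the element fixes the commutator
  have hgc : g * c * g⁻¹ = c := by
    obtain ⟨Q, hQC, hQn, hQ, a, ha, b, hb, hab⟩ := exists_normal_comm
    have hQH : ∀ q ∈ Q, D.InH (D.f q) := fun q hq => by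
      have hce : q * epsEl = epsEl * q := Subgroup.mem_centralizer_singleton_iff.1 (hQC hq)
      refine ⟨D.z_comm_f q, ?_, ?_⟩
      · show _ = _
        rw [← map_mul, ← map_mul, hce]
      · show _ = _
        rw [← map_mul, ← map_mul, cEl_eq, ← mul_assoc, hce, mul_assoc, negEl_comm q, ← mul_assoc]
    have key := D.comm_H (W := (Q.map D.f).map (MulAut.conj g).toMonoidHom)
      (u := g * D.f a * g⁻¹) (v := g * D.f b * g⁻¹) ?_ ?_ ((hQ.map _).map _)
      ⟨_, ⟨a, ha, rfl⟩, rfl⟩ ⟨_, ⟨b, hb, rfl⟩, rfl⟩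
    · have hcomm : ⁅g * D.f a * g⁻¹, g * D.f b * g⁻¹⁆ = g * c * g⁻¹ := by
        rw [hc, ← hab, map_commutatorElement, commutatorElement_def, commutatorElement_def]
        group
      rw [hcomm] at key
      refine key.resolve_left fun h => (h3 c (Or.inr (Or.inr rfl))).2.2.2 ?_
      rwa [conj_eq_one_iff] at h
    · rintro _ ⟨_, ⟨q, hq, rfl⟩, rfl⟩
      exact hH g hg _ (hQH q hq)
    · rintro x hx _ ⟨_, ⟨q, hq, rfl⟩, rfl⟩
      have hx' := hH g⁻¹ (inv_mem hg) x hx
      rw [inv_inv] at hx'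
      obtain ⟨a', k', hk', e'⟩ := D.decomp (D.mem_N_of_comm hx'.1)
      have ha' : a' ∈ Subgroup.centralizer {epsEl} := by
        rw [Subgroup.mem_centralizer_singleton_iff]
        refine D.inj ?_
        have h := hx'.2.1.eq
        rw [e'] at h
        rw [map_mul, map_mul]
        refine mul_right_cancel (b := k') ?_
        rw [mul_assoc, (D.comm epsEl k' hk').eq, ← mul_assoc, h, mul_assoc]
      refine ⟨_, ⟨_, hQn a' ha' q hq, rfl⟩, ?_⟩
      show g * D.f (a' * q * a'⁻¹) * g⁻¹ = x * (g * D.f q * g⁻¹) * x⁻¹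
      have hkq : k' * D.f q * k'⁻¹ = D.f q := mul_inv_eq_iff_eq_mul.2 (D.comm q k' hk').eq.symm
      have e'' : x = g * (D.f a' * k') * g⁻¹ := by rw [← e']; group
      rw [e'', map_mul, map_mul, map_inv]
      calc g * (D.f a' * D.f q * (D.f a')⁻¹) * g⁻¹
          = g * (D.f a' * (k' * D.f q * k'⁻¹) * (D.f a')⁻¹) * g⁻¹ := by rw [hkq]
        _ = _ := by group
  have hzc : D.z ≠ c := fun h => eps_ne.2.2.2.1 (D.inj h).symm
  have hze : g * D.z * g⁻¹ = e := by
    rcases hperm g hg D.z (Or.inl rfl) with h | h | h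
    · exact absurd h hgz
    · exact h
    · exact absurd ((mul_left_cancel (mul_right_cancel (h.trans hgc.symm)))) hzc
  have hez : g * e * g⁻¹ = D.z := by
    rcases hperm g hg e (Or.inr (Or.inl rfl)) with h | h | h
    · exact h
    · exact absurd (D.inj (mul_left_cancel (mul_right_cancel (h.trans hze.symm)))) eps_ne.2.1
    · exact absurd (D.inj (mul_left_cancel (mul_right_cancel (h.trans hgc.symm)))) eps_ne.2.2.2.2.symm
  have hPc : D.P cEl := by
    by_contra h
    exact D.eps_not_P h (isConj_iff.2 ⟨g, hze⟩)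
  obtain ⟨h, hh⟩ := isConj_iff.1 hPc
  -- the 2-part of the element
  have : Fact (Nat.Prime 2) := ⟨Nat.prime_two⟩
  obtain ⟨j, o, ho, hord⟩ := Nat.exists_eq_pow_mul_and_not_dvd (orderOf_pos g).ne' 2 (by norm_num)
  have hodd : Odd o := Nat.not_even_iff_odd.1 fun h => ho (even_iff_two_dvd.1 h)
  obtain ⟨i, rfl⟩ := hodd
  set g' := g ^ (2 * i + 1) with hg'
  have hg'n : g' ∈ Subgroup.normalizer (D.S : Set G) := pow_mem hg _
  have hg'z : g' * D.z * g'⁻¹ = e := by
    have h2 : ∀ m : ℕ, g ^ (2 * m) * D.z * (g ^ (2 * m))⁻¹ = D.z := by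
      intro m
      induction m with
      | zero => simp
      | succ m ih =>
        rw [show 2 * (m + 1) = 2 * m + 2 by ring, pow_add,
          show g ^ (2 * m) * g ^ 2 * D.z * (g ^ (2 * m) * g ^ 2)⁻¹ =
            g ^ (2 * m) * (g * (g * D.z * g⁻¹) * g⁻¹) * (g ^ (2 * m))⁻¹ by
              rw [pow_two]; group, hze, hez, ih]
    rw [hg', pow_succ', show g * g ^ (2 * i) * D.z * (g * g ^ (2 * i))⁻¹ =
      g * (g ^ (2 * i) * D.z * (g ^ (2 * i))⁻¹) * g⁻¹ by group, h2, hze]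
  have hg'S : g' ∉ D.S := fun hs => eps_ne.2.1 (D.inj (hg'z.symm.trans (D.conj_z (D.S_le hs))))
  have hg'p : IsPGroup 2 (Subgroup.zpowers g') := by
    rintro ⟨x, m, rfl⟩
    refine ⟨j, Subtype.ext ?_⟩
    show (g' ^ m) ^ 2 ^ j = 1
    rw [← zpow_natCast, ← zpow_mul, mul_comm, zpow_mul, zpow_natCast, hg', ← pow_mul, mul_comm,
      ← hord, pow_orderOf_eq_one, one_zpow]
  set V := Subgroup.zpowers g' ⊔ D.S with hV
  have hVp : IsPGroup 2 V :=
    hg'p.to_sup_of_normal_right' D.isPGroup_S (Subgroup.zpowers_le.2 hg'n)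
  have hVc : V ≤ Subgroup.centralizer {c} := by
    refine sup_le (Subgroup.zpowers_le.2 (pow_mem ?_ _)) fun s hs => ?_
    · exact Subgroup.mem_centralizer_singleton_iff.2 (mul_inv_eq_iff_eq_mul.1 hgc)
    · exact Subgroup.mem_centralizer_singleton_iff.2 ((h3 c (Or.inr (Or.inr rfl))).2.1 s hs).eq
  have hVN : V.map (MulAut.conj h⁻¹).toMonoidHom ≤ D.N := by
    rintro _ ⟨v, hv, rfl⟩
    refine D.mem_N_of_comm ?_
    have hvc : v * c = c * v := Subgroup.mem_centralizer_singleton_iff.1 (hVc hv)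
    show h⁻¹ * v * h⁻¹⁻¹ * D.z = D.z * (h⁻¹ * v * h⁻¹⁻¹)
    change h * D.z * h⁻¹ = c at hh
    calc h⁻¹ * v * h⁻¹⁻¹ * D.z = h⁻¹ * (v * (h * D.z * h⁻¹)) * h := by group
      _ = D.z * (h⁻¹ * v * h⁻¹⁻¹) := by rw [hh, hvc, ← hh]; group
  have hlt : Nat.card D.S < Nat.card V := by
    refine lt_of_not_ge fun hge => hg'S ?_
    rw [Subgroup.eq_of_le_of_card_ge (le_sup_right : D.S ≤ V) hge]
    exact Subgroup.mem_sup_left (Subgroup.mem_zpowers g')
  have := D.card_le_S hVN (hVp.map _)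
  rw [Nat.card_congr (V.equivMapOfInjective (MulAut.conj h⁻¹).toMonoidHom
    (MulAut.conj h⁻¹).injective).symm.toEquiv] at this
  omega

theorem exists_sylow : ∃ P : Sylow 2 G, (P : Subgroup G) = D.S := by
  have : Fact (Nat.Prime 2) := ⟨Nat.prime_two⟩
  obtain ⟨P, hP⟩ := D.isPGroup_S.exists_le_sylow
  refine ⟨P, ?_⟩
  by_contra hne
  have hlt : D.S.subgroupOf (P : Subgroup G) < ⊤ := by
    rw [lt_top_iff_ne_top, Ne, Subgroup.subgroupOf_eq_top]
    exact fun h => hne (le_antisymm h hP)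
  have : Group.IsNilpotent (P : Subgroup G) := P.2.isNilpotent
  obtain ⟨x, hx, hxS⟩ := SetLike.exists_of_lt (Group.normalizerCondition_of_isNilpotent _ hlt)
  have hxn : (x : G) ∈ Subgroup.normalizer (D.S : Set G) := by
    rw [Subgroup.mem_normalizer_iff]
    intro s
    constructor
    · intro hs
      exact (Subgroup.mem_normalizer_iff.1 hx ⟨s, hP hs⟩).1 hs
    · intro hs
      have hmem : s ∈ (P : Subgroup G) := by
        have h2 := mul_mem (mul_mem (inv_mem x.2) (hP hs)) x.2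
        simpa [mul_assoc] using h2
      exact (Subgroup.mem_normalizer_iff.1 hx ⟨s, hmem⟩).2 hs
  refine hxS ?_
  have hVp : IsPGroup 2 (Subgroup.zpowers (x : G) ⊔ D.S : Subgroup G) :=
    P.2.to_le (sup_le (Subgroup.zpowers_le.2 x.2) hP)
  have := D.max_S (sup_le (Subgroup.zpowers_le.2 (D.normalizer_S_le hxn)) D.S_le) hVp le_sup_right
  show (x : G) ∈ D.S
  exact this ▸ Subgroup.mem_sup_left (Subgroup.mem_zpowers _)

/-- The central involution fixes its conjugates. -/
theorem eq_of_P {a : Co0} (ha : D.P a) : a = negEl := by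
  have : Fact (Nat.Prime 2) := ⟨Nat.prime_two⟩
  obtain ⟨P, hP⟩ := D.exists_sylow
  have not_P : ∀ t : Co0, (∀ s ∈ T0, s * t = t * s) → D.P t → t = negEl := by
    intro t ht hPt
    obtain ⟨g, hg⟩ := isConj_iff.1 hPt
    obtain ⟨n, hn, hn'⟩ := Transfer.burnside_fusion_central P (x := D.z) (y := D.f t) (g := g)
      (by rw [Subgroup.mem_centralizer_iff]; exact fun s hs => D.central_S (fun t _ => negEl_comm t) s (hP ▸ hs))
      (by rw [Subgroup.mem_centralizer_iff]; exact fun s hs => D.central_S ht s (hP ▸ hs)) hg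
    have hn : n ∈ Subgroup.normalizer (D.S : Set G) := by rw [← hP]; exact hn
    exact D.inj (hn'.symm.trans (D.conj_z (D.normalizer_S_le hn)))
  have hc : ¬ D.P cEl := fun h => eps_ne.2.2.2.1 (not_P _ c_central h)
  have he : ¬ D.P epsEl := fun h => eps_ne.2.1 (not_P _ eps_central h)
  rcases classes (D.P_sq ha) with e | e | e | e | e
  · exact absurd e (D.P_ne_one ha)
  · exact e
  · exact absurd (D.P_conj e.symm ha) he
  · exact absurd (D.P_conj e.symm ha) hc
  · exact absurd (D.P_conj e.symm ha) (D.del_not_P hc he)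

theorem isolated : Cfsg.IsIsolatedInvolution D.z := by
  refine ⟨orderOf_eq_prime (by rw [pow_two, D.z_sq]) D.z_ne, fun g hg => ?_⟩
  obtain ⟨a, ha⟩ := D.range_of_mem_N (D.mem_N_of_comm hg.symm)
  rw [ha, D.eq_of_P (isConj_iff.2 ⟨g, ha⟩)]
  rfl

theorem normal (hO : Cfsg.oddCore G = ⊥) : D.f.range.Normal := by
  have hbot : Cfsg.pPrimeCore 2 G = ⊥ := hO
  have hall : ∀ g : G, g ∈ D.N := fun g => by
    have h := Invol.zStar D.isolated g
    rw [hbot, Subgroup.mem_bot] at h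
    refine D.mem_N_of_comm ?_
    have h' : D.z * g * D.z⁻¹ = g := mul_inv_eq_one.1 h
    exact (mul_inv_eq_iff_eq_mul.1 h').symm
  rw [← Subgroup.normalizer_eq_top_iff]
  exact eq_top_iff.2 fun g _ => hall g

end StdData

end CfsgLib.CoZeroInvol
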