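import Cfsg.Agent.Lib.CoZeroInvol.Facts
import Cfsg.Agent.Lib.ConwayInvol.Main
import Cfsg.Agent.Lib.Leech.Trans.Basic
import Cfsg.Agent.Lib.M24Elt.SylTwo

/-!
A Sylow 2-subgroup of Co0 and its centre.
-/

set_option autoImplicit false
set_option maxRecDepth 100000

namespace CfsgLib.CoZeroInvol

open Cfsg CfsgLib CfsgLib.Leech
open CfsgLib.Golay (comb toWord)
open CfsgLib.M24Elt (pm)
open scoped Pointwise

/-! ### A Sylow subgroup -/

/-- The monomial Sylow 2-subgroup. -/
def T0 : Subgroup Co0 where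
  carrier := {g | ∃ (τ : Equiv.Perm GolayPt) (hτ : τ ∈ M24Elt.SylTwo.P0) (c : GolayPt → ZMod 2)
    (hc : c ∈ golayCode), g = monoEl τ (M24Elt.SylTwo.P0_le hτ) c hc}
  one_mem' := ⟨1, one_mem _, 0, zero_mem _, monoEl_one.symm⟩
  mul_mem' := by
    rintro _ _ ⟨a, ha, c, hc, rfl⟩ ⟨b, hb, d, hd, rfl⟩
    exact ⟨b * a, mul_mem hb ha, _, _, monoEl_mul _ _ hc hd⟩
  inv_mem' := by
    rintro _ ⟨a, ha, c, hc, rfl⟩
    exact ⟨a⁻¹, inv_mem ha, _, _, monoEl_inv _ hc⟩

theorem card_T0 : Nat.card T0 = 2 ^ 22 := by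
  let f : M24Elt.SylTwo.P0 × golayCode → T0 := fun x =>
    ⟨monoEl x.1.1 (M24Elt.SylTwo.P0_le x.1.2) x.2.1 x.2.2, x.1.1, x.1.2, x.2.1, x.2.2, rfl⟩
  have hf : Function.Bijective f := by
    refine ⟨fun x y h => ?_, fun g => ?_⟩
    · obtain ⟨h1, h2⟩ := monoEl_inj (ha := M24Elt.SylTwo.P0_le x.1.2) (hb := M24Elt.SylTwo.P0_le y.1.2) (hc := x.2.2) (hd := y.2.2) (congrArg Subtype.val h)
      exact Prod.ext (Subtype.ext h1) (Subtype.ext h2)
    · obtain ⟨τ, hτ, c, hc, e⟩ := g.2
      exact ⟨(⟨τ, hτ⟩, ⟨c, hc⟩), Subtype.ext e.symm⟩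
  have hg : Nat.card golayCode = 4096 := by
    let h : Fin 4096 → golayCode := fun i => ⟨toWord (comb i), Golay.toWord_comb_mem i⟩
    have hh : Function.Bijective h := by
      refine ⟨fun i j e => ?_, fun c => ?_⟩
      · exact Fin.ext (Golay.comb_injOn i.2 j.2
          (Golay.toWord_inj (Golay.comb_lt i.2) (Golay.comb_lt j.2) (congrArg Subtype.val e)))
      · obtain ⟨x, hx, e⟩ := Golay.mem_golay_iff.1 c.2
        exact ⟨⟨x, hx⟩, Subtype.ext e⟩
    rw [← Nat.card_eq_of_bijective h hh, Nat.card_fin]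
  rw [← Nat.card_eq_of_bijective f hf, Nat.card_prod, M24Elt.SylTwo.card_P0, hg]; norm_num

theorem index_T0 : Odd T0.index := by
  have h := Subgroup.card_mul_index T0
  rw [card_T0, card_Co0] at h
  exact ⟨991291238437, by omega⟩

theorem signEl_mem_T0 (x : ℕ) : signEl x ∈ T0 := ⟨1, one_mem _, _, Golay.toWord_comb_mem x, rfl⟩

theorem negEl_mem_T0 : negEl ∈ T0 := negEl_eq_signEl ▸ signEl_mem_T0 _

/-- The code words fixed by the Sylow subgroup of M24. -/
theorem fixed_words : Golay.allR (fun x =>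
    !(M24Elt.ClassData.syl2Gens.all fun g => Nat.beq (Golay.pull g (comb x)) (comb x)) ||
      [0, 186, 3909, 4095].any (Nat.beq x)) 12 0 = true := by decide +kernel

theorem fixed_eps : ((M24Elt.ClassData.syl2Gens.all fun g => Nat.beq (Golay.pull g (comb 186)) (comb 186)) &&
    (M24Elt.ClassData.syl2Gens.all fun g => Nat.beq (Golay.pull g (comb 3909)) (comb 3909))) = true := by
  decide +kernel

theorem central_T0_of {n : ℕ} {hn : toWord n ∈ golayCode}
    (h : ∀ g ∈ M24Elt.ClassData.syl2Gens, Golay.pull g n = n) :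
    ∀ t ∈ T0, t * monoEl 1 (one_mem _) (toWord n) hn = monoEl 1 (one_mem _) (toWord n) hn * t := by
  rintro _ ⟨τ, hτ, c, hc, rfl⟩
  let K : Subgroup (Equiv.Perm GolayPt) :=
    { carrier := {σ | toWord n ∘ σ = toWord n}
      one_mem' := rfl
      mul_mem' := fun {a b} ha hb => funext fun p => (congrFun ha (b p)).trans (congrFun hb p)
      inv_mem' := fun {a} ha => funext fun p => by
        have := congrFun ha (a⁻¹ p)
        simpa using this.symm }
  have hK : τ ∈ K := by
    refine M24Elt.spanPts_le (fun g hg => ?_) hτ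
    show toWord n ∘ pm g = toWord n
    conv_rhs => rw [← h g hg]
    rw [Golay.toWord_pull (M24Elt.isPermOf_pm (M24Elt.SylTwo.gens_ok hg))]
    rfl
  rw [monoEl_mul, monoEl_mul]
  refine monoEl_congr (by rw [mul_one, one_mul]) ?_
  rw [show toWord n ∘ τ = toWord n from hK]
  funext p
  simp only [Pi.add_apply, Function.comp_apply, Equiv.Perm.one_apply]
  exact add_comm _ _

theorem of_all_beq {l : List ℕ} {F : ℕ → ℕ} {n : ℕ} (h : (l.all fun g => Nat.beq (F g) n) = true) :
    ∀ g ∈ l, F g = n := fun g hg => Nat.eq_of_beq_eq_true (List.all_eq_true.1 h g hg)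

theorem all_beq_of {l : List ℕ} {F : ℕ → ℕ} {n : ℕ} (h : ∀ g ∈ l, F g = n) :
    (l.all fun g => Nat.beq (F g) n) = true :=
  List.all_eq_true.2 fun g hg => by simp [h g hg]

theorem mem_of_or_any {P : ℕ → Bool} {L : List ℕ} {x : ℕ} (h : (!(P x) || L.any (Nat.beq x)) = true)
    (hp : P x = true) : x ∈ L := by
  rw [hp, Bool.not_true, Bool.false_or, List.any_eq_true] at h
  obtain ⟨y, hy, e⟩ := h
  exact Nat.eq_of_beq_eq_true e ▸ hy

theorem negEl_central (g : Co0) : g * negEl = negEl * g := negEl_comm g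

theorem eps_central : ∀ t ∈ T0, t * epsEl = epsEl * t := by
  have h := fixed_eps
  rw [Bool.and_eq_true] at h
  exact central_T0_of (hn := Golay.toWord_comb_mem 186) (of_all_beq (F := fun g => Golay.pull g (comb 186)) h.1)

theorem c_central : ∀ t ∈ T0, t * cEl = cEl * t := by
  have h := fixed_eps
  rw [Bool.and_eq_true] at h
  exact central_T0_of (hn := Golay.toWord_comb_mem 3909) (of_all_beq (F := fun g => Golay.pull g (comb 3909)) h.2)

theorem pull_fixed {n : ℕ} (hn : n < 2 ^ 24) {hcode : toWord n ∈ golayCode}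
    (hc : ∀ t ∈ T0, t * monoEl 1 (one_mem _) (toWord n) hcode = monoEl 1 (one_mem _) (toWord n) hcode * t) :
    ∀ g ∈ M24Elt.ClassData.syl2Gens, Golay.pull g n = n := by
  intro g hg
  have hP := M24Elt.isPermOf_pm (M24Elt.SylTwo.gens_ok hg)
  have h := hc _ ⟨pm g, M24Elt.pm_mem_spanPts hg, 0, zero_mem _, rfl⟩
  rw [monoEl_mul, monoEl_mul] at h
  have h2 := (monoEl_inj h).2
  refine Golay.toWord_inj (Golay.pull_lt _ _) hn ?_
  rw [Golay.toWord_pull hP]
  funext p
  simpa using congrFun h2 p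

/-- The centre of the Sylow subgroup. -/
theorem center_T0 {a : Co0} (ha : a ∈ T0) (hc : ∀ t ∈ T0, t * a = a * t) :
    a = 1 ∨ a = negEl ∨ a = epsEl ∨ a = cEl := by
  obtain ⟨τ, hτ, c, hcode, rfl⟩ := ha
  have hτ1 : τ = 1 := by
    refine Equiv.ext fun p => ?_
    by_contra hne
    obtain ⟨d, hd, hdne⟩ := exists_code_separating (i := p) (j := τ p) hne
    have h := hc _ ⟨1, one_mem _, d, hd, rfl⟩
    rw [monoEl_mul, monoEl_mul] at h
    have h2 := congrFun (monoEl_inj h).2 p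
    simp only [Pi.add_apply, Function.comp_apply, Equiv.Perm.one_apply] at h2
    rw [hdne.1, hdne.2] at h2
    generalize c p = u at h2
    revert u
    decide
  subst hτ1
  obtain ⟨x, hx, rfl⟩ := Golay.mem_golay_iff.1 hcode
  have hall := all_beq_of (pull_fixed (Golay.comb_lt hx) hc)
  have h := mem_of_or_any
    (P := fun x => M24Elt.ClassData.syl2Gens.all fun g => Nat.beq (Golay.pull g (comb x)) (comb x))
    (Golay.allR_spec fixed_words x (Nat.zero_le _) (by simpa using hx)) hall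
  simp only [List.mem_cons, List.not_mem_nil, or_false] at h
  rcases h with rfl | rfl | rfl | rfl
  · exact Or.inl signEl_zero
  · exact Or.inr (Or.inr (Or.inl rfl))
  · exact Or.inr (Or.inr (Or.inr rfl))
  · exact Or.inr (Or.inl negEl_eq_signEl.symm)

end CfsgLib.CoZeroInvol
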